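import Mathlib
import Cfsg.Prelude.Def_LocalEven
import Cfsg.Agent.KFacts.RgdNodes
import Cfsg.Agent.KFacts.RgdSyl
import Cfsg.Agent.KFacts.RgdFilt
import Cfsg.Agent.FastGrp
import Cfsg.Agent.Prune
set_option linter.all false
prune_inst 0x7f00000000000000000000000000000000000000000000000000000000000000000000000000000000000000000000000000000000000000000000000000000000000000000000000000000000000000003fffffffffffffffffffffffffffbeffbdffffffff
open scoped Cfsg.Agent.FastGrp

-- part: H223/PMinSys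
section
set_option autoImplicit false
set_option linter.style.haveILetI false
set_option linter.unusedSectionVars false

/-!
# p-minimal groups with a normal subgroup having a parabolic system

`PSys p Y ι` : `U` is a Sylow `p`-subgroup of `Y`, and the lattice of the subgroups of `Y` containing `N_Y(U)` is the
lattice of the subsets of `ι`.  If `Y` is (isomorphic to) a normal subgroup of the finite `p`-minimal group `X` and
`ι ≠ ∅`, then `N_X(U)` is a maximal subgroup of `X` and the Sylow `p`-subgroup of `X` over `U` permutes the minimal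
parabolic subgroups transitively.
-/

namespace Cfsg.Agent.H223.PMinSys

open Subgroup Cfsg

/-- `U` Sylow in `Y`, overgroups of `N_Y(U)` are indexed by the subsets of `ι`. -/
structure PSys (p : ℕ) (Y : Type*) [Group Y] (ι : Type*) where
  U : Subgroup Y
  isP : IsPGroup p U
  idx : ¬ p ∣ U.index
  e : Set ι ≃o {Q : Subgroup Y // normalizer (U : Set Y) ≤ Q}

section act

variable {X Y : Type*} [Group X] [Group Y] (f : Y →* X) (hf : Function.Injective f) (hn : f.range.Normal)

/-- The conjugation action of `X` on `Y`. -/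
noncomputable def act : X →* MulAut Y :=
  ((MulAut.congr (MonoidHom.ofInjective hf).symm).toMonoidHom).comp
    (haveI := hn; (MulAut.conjNormal : X →* MulAut f.range))

theorem f_act (g : X) (y : Y) : f (act f hf hn g y) = g * f y * g⁻¹ := by
  haveI := hn
  have h1 : ∀ z : f.range, f ((MonoidHom.ofInjective hf).symm z) = z := fun z =>
    congrArg Subtype.val ((MonoidHom.ofInjective hf).apply_symm_apply z)
  show f ((MonoidHom.ofInjective hf).symm (MulAut.conjNormal g (MonoidHom.ofInjective hf y))) = _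
  rw [h1, MulAut.conjNormal_apply]
  rfl

end act

section auto

variable {p : ℕ} {Y ι : Type*} [Group Y]

/-- An automorphism fixing `U` acts on the overgroups of `N(U)`. -/
def onOver {U : Subgroup Y} (α : MulAut Y) (hα : U.map α.toMonoidHom = U) :
    {Q : Subgroup Y // normalizer (U : Set Y) ≤ Q} ≃o {Q : Subgroup Y // normalizer (U : Set Y) ≤ Q} :=
  have key : ∀ (β : MulAut Y), U.map β.toMonoidHom = U → ∀ Q : Subgroup Y, normalizer (U : Set Y) ≤ Q →
      normalizer (U : Set Y) ≤ Q.map β.toMonoidHom := by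
    intro β hβ Q hQ
    have h1 : (normalizer (U : Set Y)).map β.toMonoidHom = normalizer (U : Set Y) := by
      have := Subgroup.map_equiv_normalizer_eq U β
      rw [this]
      congr 1
      exact congrArg _ hβ
    rw [← h1]
    exact Subgroup.map_mono hQ
  have hα' : U.map (α⁻¹).toMonoidHom = U := by
    conv_lhs => rw [← hα]
    rw [Subgroup.map_map]
    ext y
    constructor
    · rintro ⟨u, hu, rfl⟩
      have : (MulEquiv.toMonoidHom α⁻¹).comp (MulEquiv.toMonoidHom α) u = u := MulAut.inv_apply_self _ α u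
      rwa [this]
    · intro hy
      exact ⟨y, hy, MulAut.inv_apply_self _ α y⟩
  { toFun := fun Q => ⟨Q.1.map α.toMonoidHom, key α hα Q.1 Q.2⟩
    invFun := fun Q => ⟨Q.1.map (α⁻¹).toMonoidHom, key α⁻¹ hα' Q.1 Q.2⟩
    left_inv := fun Q => Subtype.ext (by
      show (Q.1.map α.toMonoidHom).map (α⁻¹).toMonoidHom = Q.1
      rw [Subgroup.map_map]
      ext y
      constructor
      · rintro ⟨u, hu, rfl⟩
        have : (MulEquiv.toMonoidHom α⁻¹).comp (MulEquiv.toMonoidHom α) u = u := MulAut.inv_apply_self _ α u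
        rwa [this]
      · intro hy
        exact ⟨y, hy, MulAut.inv_apply_self _ α y⟩)
    right_inv := fun Q => Subtype.ext (by
      show (Q.1.map (α⁻¹).toMonoidHom).map α.toMonoidHom = Q.1
      rw [Subgroup.map_map]
      ext y
      constructor
      · rintro ⟨u, hu, rfl⟩
        have : (MulEquiv.toMonoidHom α).comp (MulEquiv.toMonoidHom α⁻¹) u = u := MulAut.apply_inv_self _ α u
        rwa [this]
      · intro hy
        exact ⟨y, hy, MulAut.apply_inv_self _ α y⟩)
    map_rel_iff' := by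
      intro Q Q'
      exact Subgroup.map_le_map_iff_of_injective α.injective }

/-- The action on the subsets of `ι`. -/
def PSys.phi (Z : PSys p Y ι) (α : MulAut Y) (hα : Z.U.map α.toMonoidHom = Z.U) : Set ι ≃o Set ι :=
  (Z.e.trans (onOver α hα)).trans Z.e.symm

theorem PSys.e_phi (Z : PSys p Y ι) (α : MulAut Y) (hα : Z.U.map α.toMonoidHom = Z.U) (J : Set ι) :
    ((Z.e (Z.phi α hα J)) : Subgroup Y) = (Z.e J : Subgroup Y).map α.toMonoidHom := by
  show ((Z.e (Z.e.symm (onOver α hα (Z.e J)))) : Subgroup Y) = _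
  rw [OrderIso.apply_symm_apply]
  rfl

theorem PSys.phi_eq_iff (Z : PSys p Y ι) (α : MulAut Y) (hα : Z.U.map α.toMonoidHom = Z.U) (J J' : Set ι) :
    Z.phi α hα J = J' ↔ (Z.e J : Subgroup Y).map α.toMonoidHom = Z.e J' := by
  rw [← Z.e_phi α hα]
  constructor
  · rintro rfl
    rfl
  · intro h
    exact Z.e.injective (Subtype.ext h)

end auto

section main

variable {X Y ι : Type*} [Group X] [Finite X] [Group Y] {p : ℕ} [Fact p.Prime] (hX : IsPMinimal p X)
  (f : Y →* X) (hf : Function.Injective f) (hn : f.range.Normal) (Z : PSys p Y ι)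

/-- The data of the proof: `S` a Sylow `p`-subgroup of `X` over `U`, `M` the maximal subgroup over `S`. -/
structure Ctx (S : Sylow p X) (M : Subgroup X) : Prop where
  comap : (S : Subgroup X).comap f = Z.U
  coatom : IsCoatom M
  le : (S : Subgroup X) ≤ M
  max : ∀ L : Subgroup X, (S : Subgroup X) ≤ L → L ≠ ⊤ → L ≤ M
  fixU : ∀ g ∈ S, Z.U.map (act f hf hn g).toMonoidHom = Z.U

include hf in
theorem finite_Y : Finite Y := Finite.of_injective f hf

include hX hn in
theorem exists_ctx : ∃ (S : Sylow p X) (M : Subgroup X), Ctx f hf hn Z S M := by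
  haveI := hn
  have : Finite Y := finite_Y f hf
  obtain ⟨S, hS⟩ := (Z.isP.map f).exists_le_sylow
  obtain ⟨-, M, ⟨hM, hSM⟩, huniq⟩ := hX S
  have hcomap : (S : Subgroup X).comap f = Z.U := by
    let T : Sylow p Y := Z.isP.toSylow Z.idx
    have h1 : IsPGroup p ((S : Subgroup X).comap f) := S.isPGroup'.comap_of_injective f hf
    have h2 : (T : Subgroup Y) ≤ (S : Subgroup X).comap f := Subgroup.map_le_iff_le_comap.1 hS
    exact T.is_maximal' h1 h2
  refine ⟨S, M, hcomap, hM, hSM, ?_, ?_⟩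
  · intro L hL hne
    obtain ⟨M', hM', hLM'⟩ := (eq_top_or_exists_le_coatom L).resolve_left hne
    have h1 := huniq M' ⟨hM', hL.trans hLM'⟩
    rwa [← h1]
  · intro g hg
    have key : ∀ g ∈ S, ∀ u ∈ Z.U, act f hf hn g u ∈ Z.U := by
      intro g hg u hu
      rw [← hcomap, Subgroup.mem_comap, f_act]
      rw [← hcomap] at hu
      exact mul_mem (mul_mem hg hu) (inv_mem hg)
    ext y
    constructor
    · rintro ⟨u, hu, rfl⟩
      exact key g hg u hu
    · intro hy
      refine ⟨act f hf hn g⁻¹ y, key g⁻¹ (inv_mem hg) y hy, ?_⟩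
      show (act f hf hn g) (act f hf hn g⁻¹ y) = y
      rw [map_inv]
      exact MulAut.apply_inv_self _ _ y

namespace Ctx

variable {f hf hn Z} {S : Sylow p X} {M : Subgroup X} (C : Ctx f hf hn Z S M)

/-- The permutation of the subsets induced by `g ∈ S`. -/
noncomputable def ph (C : Ctx f hf hn Z S M) (g : S) : Set ι ≃o Set ι := Z.phi (act f hf hn g) (C.fixU g g.2)

theorem ph_eq_iff (g : S) (J J' : Set ι) : C.ph g J = J' ↔
    (Z.e J : Subgroup Y).map (act f hf hn g).toMonoidHom = Z.e J' := Z.phi_eq_iff _ _ J J'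

theorem e_ph (g : S) (J : Set ι) : (Z.e (C.ph g J) : Subgroup Y) =
    (Z.e J : Subgroup Y).map (act f hf hn g).toMonoidHom := Z.e_phi _ _ J

theorem ph_one (J : Set ι) : C.ph 1 J = J := by
  rw [ph_eq_iff]
  have h1 : (act f hf hn ((1 : S) : X)) = 1 := map_one _
  rw [h1]
  exact Subgroup.map_id _

theorem ph_mul (g h : S) (J : Set ι) : C.ph (g * h) J = C.ph g (C.ph h J) := by
  rw [ph_eq_iff, e_ph, e_ph, Subgroup.map_map]
  have h1 : (act f hf hn ((g * h : S) : X)) = act f hf hn g * act f hf hn h := map_mul _ _ _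
  rw [h1]
  rfl

include C

theorem U_le (J : Set ι) : Z.U ≤ (Z.e J : Subgroup Y) :=
  le_trans le_normalizer (Z.e J).2

/-- `S`-invariant proper parabolic subgroups lie in `M`. -/
theorem le_M {K : Set ι} (hK : K ≠ Set.univ) (hinv : ∀ g : S, C.ph g K = K) :
    (Z.e K : Subgroup Y).map f ≤ M := by
  set Q : Subgroup Y := (Z.e K : Subgroup Y) with hQ
  have hnorm : (S : Subgroup X) ≤ normalizer (Q.map f : Set X) := by
    have key : ∀ g ∈ S, ∀ y ∈ Q, g * f y * g⁻¹ ∈ Q.map f := by
      intro g hg y hy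
      have h1 := (C.ph_eq_iff ⟨g, hg⟩ K K).1 (hinv ⟨g, hg⟩)
      rw [← f_act f hf hn]
      refine ⟨_, ?_, rfl⟩
      show act f hf hn g y ∈ Q
      rw [hQ, ← h1]
      exact ⟨y, hy, rfl⟩
    intro g hg
    rw [Subgroup.mem_normalizer_iff]
    intro x
    constructor
    · rintro ⟨y, hy, rfl⟩
      exact key g hg y hy
    · rintro ⟨y, hy, e⟩
      have h1 := key g⁻¹ (inv_mem hg) y hy
      rw [e] at h1
      have h2 : g⁻¹ * (g * x * g⁻¹) * g⁻¹⁻¹ = x := by group
      rwa [h2] at h1
  have hL : (S : Subgroup X) ⊔ Q.map f ≠ ⊤ := by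
    intro htop
    apply hK
    have h1 : Q = ⊤ := by
      rw [eq_top_iff]
      intro y _
      have h2 : f y ∈ (S : Subgroup X) ⊔ Q.map f := by rw [htop]; trivial
      rw [← SetLike.mem_coe, Subgroup.coe_mul_of_left_le_normalizer_right _ _ hnorm] at h2
      obtain ⟨s, hs, z, ⟨q, hq, rfl⟩, e⟩ := h2
      have h3 : f (y * q⁻¹) = s := by
        rw [map_mul, map_inv, ← e]
        exact mul_inv_cancel_right _ _
      have h4 : y * q⁻¹ ∈ Z.U := by
        rw [← C.comap, Subgroup.mem_comap, h3]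
        exact hs
      have h5 := mul_mem (C.U_le K h4) hq
      rwa [inv_mul_cancel_right] at h5
    have h2 : Z.e K = Z.e Set.univ := by
      apply Subtype.ext
      have h3 : ((Z.e ⊤ : {Q : Subgroup Y // normalizer (Z.U : Set Y) ≤ Q}) : Subgroup Y) = ⊤ := by
        have : (⟨⊤, le_top⟩ : {Q : Subgroup Y // normalizer (Z.U : Set Y) ≤ Q}) ≤ Z.e ⊤ := by
          rw [← Z.e.symm_apply_le]
          exact le_top
        exact top_le_iff.1 this
      rw [← hQ, h1]
      exact h3.symm
    exact Z.e.injective h2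
  exact le_trans le_sup_right (C.max _ le_sup_left hL)

omit [Finite X] in
theorem e_bot : ((Z.e ∅ : {Q : Subgroup Y // normalizer (Z.U : Set Y) ≤ Q}) : Subgroup Y) =
    normalizer (Z.U : Set Y) := by
  have : Z.e ∅ ≤ (⟨normalizer (Z.U : Set Y), le_rfl⟩ : {Q : Subgroup Y // normalizer (Z.U : Set Y) ≤ Q}) := by
    rw [← Z.e.le_symm_apply]
    exact bot_le
  exact le_antisymm this (Z.e ∅).2

theorem e_univ : ((Z.e Set.univ : {Q : Subgroup Y // normalizer (Z.U : Set Y) ≤ Q}) : Subgroup Y) = ⊤ := by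
  have : (⟨⊤, le_top⟩ : {Q : Subgroup Y // normalizer (Z.U : Set Y) ≤ Q}) ≤ Z.e ⊤ := by
    rw [← Z.e.symm_apply_le]
    exact le_top
  exact top_le_iff.1 this

/-- `X = Y N_X(U)`. -/
theorem frattini (x : X) : ∃ y : Y, ∃ n ∈ normalizer (Z.U.map f : Set X), x = f y * n := by
  haveI := hn
  have : Finite Y := finite_Y f hf
  let T : Sylow p Y := Z.isP.toSylow Z.idx
  let T' : Sylow p f.range := T.mapSurjective (f := f.rangeRestrict) f.rangeRestrict_surjective
  have h1 := T'.normalizer_sup_eq_top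
  have h2 : (T' : Subgroup f.range).map f.range.subtype = Z.U.map f := by
    show ((Z.U).map f.rangeRestrict).map f.range.subtype = Z.U.map f
    rw [Subgroup.map_map]
    rfl
  rw [h2] at h1
  have h3 : x ∈ f.range ⊔ normalizer (Z.U.map f : Set X) := by
    rw [sup_comm, h1]
    trivial
  rw [← SetLike.mem_coe, Subgroup.normal_mul] at h3
  obtain ⟨_, ⟨y, rfl⟩, n, hn', e⟩ := h3
  exact ⟨y, n, hn', e.symm⟩

theorem S_le : (S : Subgroup X) ≤ normalizer (Z.U.map f : Set X) := by
  have key : ∀ g ∈ S, ∀ y ∈ Z.U, g * f y * g⁻¹ ∈ Z.U.map f := by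
    intro g hg y hy
    rw [← f_act f hf hn]
    refine ⟨_, ?_, rfl⟩
    show act f hf hn g y ∈ Z.U
    rw [← C.fixU g hg]
    exact ⟨y, hy, rfl⟩
  intro g hg
  rw [Subgroup.mem_normalizer_iff]
  intro x
  constructor
  · rintro ⟨y, hy, rfl⟩
    exact key g hg y hy
  · rintro ⟨y, hy, e⟩
    have h1 := key g⁻¹ (inv_mem hg) y hy
    rw [e] at h1
    have h2 : g⁻¹ * (g * x * g⁻¹) * g⁻¹⁻¹ = x := by group
    rwa [h2] at h1

theorem mem_normalizer {y : Y} : f y ∈ normalizer (Z.U.map f : Set X) ↔ y ∈ normalizer (Z.U : Set Y) := by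
  rw [Subgroup.mem_normalizer_iff, Subgroup.mem_normalizer_iff]
  constructor
  · intro h u
    have h1 := h (f u)
    rw [Subgroup.mem_map_iff_mem hf, ← map_mul, ← map_inv, ← map_mul, Subgroup.mem_map_iff_mem hf] at h1
    exact h1
  · intro h x
    constructor
    · rintro ⟨u, hu, rfl⟩
      exact ⟨y * u * y⁻¹, (h u).1 hu, by rw [map_mul, map_mul, map_inv]⟩
    · rintro ⟨u, hu, e⟩
      refine ⟨y⁻¹ * u * y, (h _).2 ?_, ?_⟩
      · have : y * (y⁻¹ * u * y) * y⁻¹ = u := by group
        rwa [this]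
      · rw [map_mul, map_mul, map_inv, e]
        group

variable [Nonempty ι]

theorem norm_ne : normalizer (Z.U.map f : Set X) ≠ ⊤ := by
  intro h
  have h1 : normalizer (Z.U : Set Y) = ⊤ := by
    rw [eq_top_iff]
    intro y _
    rw [← C.mem_normalizer, h]
    trivial
  have h2 : Z.e ∅ = Z.e Set.univ := by
    apply Subtype.ext
    rw [C.e_bot, C.e_univ, h1]
  exact Set.empty_ne_univ (Z.e.injective h2)

theorem norm_le : normalizer (Z.U.map f : Set X) ≤ M := C.max _ C.S_le C.norm_ne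

/-- `M ∩ Y = N_Y(U)`. -/
theorem comap_M : M.comap f = normalizer (Z.U : Set Y) := by
  have hQ : normalizer (Z.U : Set Y) ≤ M.comap f := by
    intro y hy
    exact C.norm_le (C.mem_normalizer.2 hy)
  obtain ⟨J, hJ⟩ : ∃ J, Z.e J = ⟨M.comap f, hQ⟩ := Z.e.surjective _
  have hJ' : (Z.e J : Subgroup Y) = M.comap f := congrArg Subtype.val hJ
  have hJne : J ≠ Set.univ := by
    rintro rfl
    rw [C.e_univ] at hJ'
    apply C.coatom.1
    rw [eq_top_iff]
    intro x _
    obtain ⟨y, n, hn', rfl⟩ := C.frattini x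
    have h1 : y ∈ M.comap f := by rw [← hJ']; trivial
    exact mul_mem h1 (C.norm_le hn')
  have hinv : ∀ g : S, C.ph g J = J := by
    intro g
    rw [C.ph_eq_iff, hJ']
    have key : ∀ g ∈ S, ∀ y ∈ M.comap f, act f hf hn g y ∈ M.comap f := by
      intro g hg y hy
      rw [Subgroup.mem_comap, f_act]
      exact mul_mem (mul_mem (C.le hg) hy) (inv_mem (C.le hg))
    ext y
    constructor
    · rintro ⟨z, hz, rfl⟩
      exact key g g.2 z hz
    · intro hy
      refine ⟨act f hf hn (g : X)⁻¹ y, key _ (inv_mem g.2) y hy, ?_⟩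
      show (act f hf hn (g : X)) (act f hf hn (g : X)⁻¹ y) = y
      rw [map_inv]
      exact MulAut.apply_inv_self _ _ y
  have hinv' : ∀ g : S, C.ph g Jᶜ = Jᶜ := by
    intro g
    have h1 : IsCompl (C.ph g J) (C.ph g Jᶜ) := (C.ph g).isCompl isCompl_compl
    rw [hinv g] at h1
    exact h1.compl_eq.symm
  have hJc : Jᶜ = Set.univ := by
    by_contra hne
    have h1 := C.le_M hne hinv'
    rw [Subgroup.map_le_iff_le_comap, ← hJ'] at h1
    have h2 : Jᶜ ≤ J := Z.e.le_iff_le.1 h1
    have h3 : Jᶜ = ∅ := by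
      rw [← Set.subset_empty_iff]
      intro x hx
      exact hx (h2 hx)
    exact hJne (Set.compl_empty_iff.1 h3)
  have hJe : J = ∅ := Set.compl_univ_iff.1 hJc
  rw [← hJ', hJe, C.e_bot]

/-- `N_X(U)` is the maximal subgroup over `S`. -/
theorem eq_norm : M = normalizer (Z.U.map f : Set X) := by
  apply le_antisymm _ C.norm_le
  intro m hm
  obtain ⟨y, n, hn', rfl⟩ := C.frattini m
  have h1 : y ∈ M.comap f := by
    have := mul_mem hm (inv_mem (C.norm_le hn'))
    rwa [mul_inv_cancel_right] at this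
  rw [C.comap_M] at h1
  exact mul_mem (C.mem_normalizer.2 h1) hn'

omit [Nonempty ι] in
theorem ph_singleton (g : S) (i : ι) : ∃ j, C.ph g {i} = {j} := by
  have h1 : IsAtom ({i} : Set ι) := Set.isAtom_singleton i
  have h2 : IsAtom (C.ph g {i}) := ((C.ph g).isAtom_iff _).2 h1
  exact Set.isAtom_iff.1 h2

/-- `S` permutes the minimal parabolics transitively. -/
theorem trans (i j : ι) : ∃ g : S, C.ph g {i} = {j} := by
  let O : Set ι := {j | ∃ g : S, C.ph g {i} = {j}}
  have hsub : ∀ h : S, C.ph h O ≤ O := by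
    intro h
    have h1 : O = ⨆ j ∈ O, ({j} : Set ι) := by
      ext x
      simp
    have h2 : C.ph h O = ⨆ j ∈ O, C.ph h {j} := by
      conv_lhs => rw [h1]
      rw [OrderIso.map_iSup]
      simp only [OrderIso.map_iSup]
    rw [h2]
    refine iSup₂_le ?_
    rintro j ⟨g, hg⟩
    obtain ⟨k, hk⟩ := C.ph_singleton h j
    rw [hk]
    have h3 : C.ph (h * g) {i} = {k} := by rw [C.ph_mul, hg, hk]
    intro x hx
    rw [Set.mem_singleton_iff.1 hx]
    exact ⟨h * g, h3⟩
  have hinv : ∀ h : S, C.ph h O = O := by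
    intro h
    apply le_antisymm (hsub h)
    have h1 := (C.ph h).monotone (hsub h⁻¹)
    rwa [← C.ph_mul, mul_inv_cancel, C.ph_one] at h1
  have hi : i ∈ O := ⟨1, C.ph_one _⟩
  by_cases hO : O = Set.univ
  · have : j ∈ O := by rw [hO]; trivial
    exact this
  · exfalso
    have h1 := C.le_M hO hinv
    rw [Subgroup.map_le_iff_le_comap, C.comap_M] at h1
    have h3 : (Z.e O : Subgroup Y) ≤ (Z.e ∅ : Subgroup Y) := h1.trans C.e_bot.ge
    have h2 : O ≤ (∅ : Set ι) := Z.e.le_iff_le.1 h3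
    exact h2 hi

omit [Nonempty ι] in
theorem ph_pow (g : S) {i j : ι} (hij : C.ph g {i} = {j}) (hji : C.ph g {j} = {i}) (m : ℕ) :
    C.ph (g ^ (2 * m)) {i} = {i} := by
  induction m with
  | zero => rw [mul_zero, pow_zero]; exact C.ph_one _
  | succ m ih =>
    rw [show 2 * (m + 1) = 1 + (1 + 2 * m) by ring, pow_add, pow_add, pow_one, C.ph_mul, C.ph_mul, ih, hij, hji]

/-- If there are exactly two nodes, then `p = 2`. -/
theorem eq_two {i j : ι} (hij : i ≠ j) (hall : ∀ k, k = i ∨ k = j) : p = 2 := by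
  obtain ⟨g, hg⟩ := C.trans i j
  have hji : C.ph g {j} = {i} := by
    obtain ⟨k, hk⟩ := C.ph_singleton g j
    rcases hall k with rfl | rfl
    · exact hk
    · exfalso
      exact hij (Set.singleton_injective ((C.ph g).injective (hg.trans hk.symm)))
  by_contra hp
  have hodd : Odd p := (Fact.out : p.Prime).odd_of_ne_two hp
  obtain ⟨k, hk⟩ := S.isPGroup' g
  obtain ⟨m, hm⟩ : Odd (p ^ k) := hodd.pow
  have h1 : C.ph (g ^ (p ^ k)) {i} = {j} := by
    rw [hm, show 2 * m + 1 = 1 + 2 * m by ring, pow_add, pow_one, C.ph_mul, C.ph_pow g hg hji, hg]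
  rw [hk, C.ph_one] at h1
  exact hij (Set.singleton_injective h1)

/-- If there are at least two nodes, then `Y ≠ X`. -/
theorem range_ne {i j : ι} (hij : i ≠ j) : f.range ≠ ⊤ := by
  intro htop
  obtain ⟨g, hg⟩ := C.trans i j
  have h1 : (g : X) ∈ f.range := by rw [htop]; trivial
  obtain ⟨u, hu⟩ := h1
  have hu' : u ∈ Z.U := by
    rw [← C.comap, Subgroup.mem_comap, hu]
    exact g.2
  have h2 : act f hf hn (g : X) = MulAut.conj u := by
    ext y
    apply hf
    rw [f_act, ← hu]
    show f u * f y * (f u)⁻¹ = f (u * y * u⁻¹)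
    rw [map_mul, map_mul, map_inv]
  have h3 : C.ph g {i} = {i} := by
    rw [C.ph_eq_iff, h2]
    have hui := C.U_le {i} hu'
    ext y
    constructor
    · rintro ⟨z, hz, rfl⟩
      exact mul_mem (mul_mem hui hz) (inv_mem hui)
    · intro hy
      refine ⟨u⁻¹ * y * u, mul_mem (mul_mem (inv_mem hui) hy) hui, ?_⟩
      show u * (u⁻¹ * y * u) * u⁻¹ = y
      group
  rw [h3] at hg
  exact hij (Set.singleton_injective hg)

end Ctx

include hX hf hn in
/-- **Main theorem.** -/
theorem main [Nonempty ι] : IsCoatom (normalizer (Z.U.map f : Set X)) ∧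
    (∀ i j : ι, ∃ α : MulAut Y, Z.U.map α.toMonoidHom = Z.U ∧
      (Z.e {i} : Subgroup Y).map α.toMonoidHom = Z.e {j}) ∧
    (∀ i j : ι, i ≠ j → f.range ≠ ⊤) ∧ (∀ i j : ι, i ≠ j → (∀ k, k = i ∨ k = j) → p = 2) := by
  obtain ⟨S, M, C⟩ := exists_ctx hX f hf hn Z
  refine ⟨?_, ?_, fun i j hij => C.range_ne hij, fun i j hij h => C.eq_two hij h⟩
  · rw [← C.eq_norm]
    exact C.coatom
  · intro i j
    obtain ⟨g, hg⟩ := C.trans i j
    exact ⟨act f hf hn g, C.fixU g g.2, (C.ph_eq_iff g _ _).1 hg⟩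

end main

end Cfsg.Agent.H223.PMinSys
end

-- part: H223/PMinRgd
section
set_option autoImplicit false
set_option linter.style.haveILetI false
set_option linter.unusedSectionVars false

/-!
# Parabolic systems from root group data

* `psys R hG1 : PSys p Y I`;
* `exists_diag_of_map` : an automorphism fixing `U` and mapping `P_i` to `P_j` gives a diagram symmetry `σ` with `σ i = j`.
-/

namespace Cfsg.Agent.H223.PMinRgd

open Subgroup Cfsg Cfsg.Agent.H223.PMinSys
open CoxeterSystem Cfsg.Agent.ChevalleyStructure.CoxeterGeom Cfsg.Agent.Tits.Roots Cfsg.Agent.Tits.Core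
  Cfsg.Agent.Tits.Exchange Cfsg.Agent.Tits.RootComb Cfsg.Agent.Nodes.Reps Cfsg.Agent.Nodes.BNOf Cfsg.Agent.Nodes.StabComb
  Cfsg.Agent.Nodes.Bruhat Cfsg.Agent.Nodes.OppDec Cfsg.Agent.Nodes.LeviDec Cfsg.Agent.Nodes.NormalForm
  Cfsg.Agent.KFacts.RgdAut Cfsg.Agent.KFacts.RgdDiag

variable {I W Y : Type*} [Fintype I] [DecidableEq I] [Group W] [Group Y] {M : CoxeterMatrix I}
  {cs : CoxeterSystem M W} {A : I → I → ℤ} {h : IsCartan M A} {p : ℕ} {T : Subgroup Y} {n : I → Y}
  {X : (I → ℤ) → Subgroup Y}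

variable (R : RGD cs h p T n X) (hG1 : RGD.Sup X {x | IsRoot cs h x} = ⊤)

include R in
theorem n_mem_PJ_iff [Finite W] {J : Set I} {i : I} : n i ∈ PJ cs h T X J ↔ i ∈ J := by
  constructor
  · intro h1
    have h2 := (cell_mem_PJ_iff R (cell_of_rp (rp_simple cs R.nsys i))).1 h1
    by_contra hcon
    have h3 := rep_apply_of_mem cs h h2 (sr i) hcon
    rw [rep_simple_sr, Pi.neg_apply, sr_self] at h3
    exact absurd h3 (by decide)
  · intro hi
    exact LJ_le_PJ (n_mem_LJ R hi)

include R in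
theorem PJ_le_PJ_iff [Finite W] {J J' : Set I} : PJ cs h T X J ≤ PJ cs h T X J' ↔ J ⊆ J' := by
  constructor
  · intro hle i hi
    exact (n_mem_PJ_iff R).1 (hle ((n_mem_PJ_iff R).2 hi))
  · intro hJ g hg
    obtain ⟨w, hw, hc⟩ := (mem_PJ_iff_cell R).1 hg
    exact (mem_PJ_iff_cell R).2 ⟨w, WJ_mono cs hJ hw, hc⟩

/-- the parabolic system of a root group datum -/
noncomputable def psys [Finite W] [Finite Y] [Fact p.Prime] : PSys p Y I where
  U := RGD.Sup X (RGD.Pos cs h)
  isP := R.isPGroup_Upos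
  idx := by
    have := KFacts.RgdSyl.not_dvd_relIndex R
    rwa [KFacts.RgdFilt.GG_eq_top hG1, Subgroup.relIndex_top_right] at this
  e :=
    have hN : normalizer (RGD.Sup X (RGD.Pos cs h) : Set Y) = RGD.B cs h T X :=
      normalizer_U' R (KFacts.RgdFilt.GG_eq_top hG1)
    { toFun := fun J => ⟨PJ cs h T X J, hN.le.trans B_le_PJ⟩
      invFun := fun Q => {i | n i ∈ Q.1}
      left_inv := fun J => Set.ext fun i => n_mem_PJ_iff R
      right_inv := fun Q => Subtype.ext (by
        have h1 := inf_eq_PJ R (hN.ge.trans Q.2)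
        rw [KFacts.RgdFilt.GG_eq_top hG1, inf_top_eq] at h1
        exact h1.symm)
      map_rel_iff' := fun {J J'} => PJ_le_PJ_iff R }

include R hG1 in
theorem exists_diag_of_map [Finite W] [Finite Y] [Fact p.Prime] {i j : I} {α : MulAut Y}
    (hU : (RGD.Sup X (RGD.Pos cs h)).map α.toMonoidHom = RGD.Sup X (RGD.Pos cs h))
    (hP : (PJ cs h T X {i}).map α.toMonoidHom = PJ cs h T X {j}) :
    ∃ (β : MulAut Y) (σ : Equiv.Perm I), Diag T X β σ ∧ σ i = j := by
  have hG := KFacts.RgdFilt.GG_eq_top (T := T) hG1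
  obtain ⟨u, hu, h1, hB, h2, -, -⟩ := exists_frame R hG (fix_iff.2 hU)
  obtain ⟨σ, hσ⟩ := exists_diag R hG h1 h2
  refine ⟨_, σ, hσ, ?_⟩
  -- `β (n i) ∈ P_j`
  have h3 : (MulAut.conj u * α) (n i) ∈ PJ cs h T X {j} := by
    rw [MulAut.mul_apply, MulAut.conj_apply]
    have hu' : u ∈ PJ cs h T X {j} := B_le_PJ (RGD.U_le_B hu)
    refine mul_mem (mul_mem hu' ?_) (inv_mem hu')
    rw [← hP]
    exact ⟨n i, (n_mem_PJ_iff R).2 rfl, rfl⟩
  have h4 := (cell_mem_PJ_iff R (cell_of_rp (hσ.rp (R := R) i))).1 h3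
  exact eq_of_simple_mem h h4

end Cfsg.Agent.H223.PMinRgd
end

private theorem dce_8248b89b6575 : _root_.True := by
  try have : _root_.True := by simp only [_root_.Cfsg.Agent.H223.PMinSys.Ctx.ph.congr_simp]
  exact _root_.True.intro
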