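import Mathlib
import Cfsg.Prelude.Def_AlmostLie
import Cfsg.Agent.H223.PMinRgd
import Cfsg.Agent.Omega.TwoF.TitsAut
import Cfsg.Agent.H566.RgdExc_m3
import Cfsg.Agent.Nodes.CardWitt
import Cfsg.Agent.Mrg.ParSys.Fam.D4
import Cfsg.Agent.S1077
import Cfsg.Agent.S1059
import Cfsg.Agent.S1057
import Cfsg.Agent.S0815
import Cfsg.Agent.S0280
import Cfsg.Agent.S0283
import Cfsg.Agent.ChevalleyStructure.NineField
import Cfsg.Agent.Classification.SimpleIndex
import Cfsg.Agent.Involutions.IndexFive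
import Cfsg.Agent.SmallSimple.PSLTwoPart
import Cfsg.Agent.TwoFusion.SLTwoFacts
import Cfsg.Agent.FixBN.Split
import Cfsg.Agent.S0316
import Cfsg.Agent.H566.RankOneSR
import Cfsg.Agent.Schreier.TwFFour
import Cfsg.Prelude.Def_EvenType
import Cfsg.Agent.Lib.FastPerm
import Cfsg.Agent.Lib.ListFast
import Cfsg.Agent.FastGrp
import Cfsg.Agent.Prune
set_option linter.all false
prune_inst 0x7ffcfffbaff83ddeffff7e7ffebddffdf9fd7fffefdff9cbffece5ff8fdf4b0e6be5fba78fe250fe0ed6e23410f87b53fdffdabfe36bdc7ffffd1ff45ffbff9ffdf6bd0851ff9cb40fbc6fffe3f07f8e7f3fffffffffffffffffffffffffffbeffbfffffffff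
open scoped Cfsg.Agent.FastGrp

-- part: H223/PMinGood
section
set_option autoImplicit false
set_option linter.style.haveILetI false
set_option linter.unusedSectionVars false

/-!
# p-minimal groups with a normal subgroup of Lie type: the framework

* `PGood p Y` : the conclusion of the theorem for all `p`-minimal `X` with a normal subgroup isomorphic to `Y`;
* `PGood.congr`, `PGood.final` : transport;
* `pgood_of_psys` : rank one;
* `pgood_of_rgd` : root group data.
-/

namespace Cfsg.Agent.H223.PMinGood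

open Subgroup Cfsg Cfsg.Agent.H223.PMinSys

universe u v w

/-- The three exceptional cases of rank two. -/
def Rk2 (K : Type*) [Group K] : Prop :=
  (∃ (F : Type) (_ : Field F) (_ : Fintype F) (_ : CharP F 2),
    Nonempty (K ≃* Matrix.ProjectiveSpecialLinearGroup (Fin 3) F)) ∨
  (∃ (F : Type) (_ : Field F) (_ : Fintype F) (_ : CharP F 2), 4 ≤ Fintype.card F ∧ Nonempty (K ≃* Cfsg.PSp 2 F)) ∨
  Nonempty (K ≃* ↥(alternatingGroup (Fin 6)))

def Res (p : ℕ) (K : Type*) [Group K] (b : Prop) : Prop :=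
  Cfsg.IsLieRankOneChar p K ∨ (p = 2 ∧ b ∧ Rk2 K)

theorem Rk2.congr {K : Type v} {L : Type w} [Group K] [Group L] (e : K ≃* L) (h : Rk2 K) : Rk2 L := by
  rcases h with ⟨F, i1, i2, i3, ⟨f⟩⟩ | ⟨F, i1, i2, i3, h4, ⟨f⟩⟩ | ⟨⟨f⟩⟩
  · exact Or.inl ⟨F, i1, i2, i3, ⟨e.symm.trans f⟩⟩
  · exact Or.inr (Or.inl ⟨F, i1, i2, i3, h4, ⟨e.symm.trans f⟩⟩)
  · exact Or.inr (Or.inr ⟨e.symm.trans f⟩)

theorem rankOne_congr {p : ℕ} {K : Type v} {L : Type w} [Group K] [Group L] (e : K ≃* L)
    (h : Cfsg.IsLieRankOneChar p K) : Cfsg.IsLieRankOneChar p L := by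
  rcases h with ⟨F, i1, i2, i3, h4, ⟨f⟩⟩ | ⟨F, i1, i2, i3, q, h4, h5, ⟨f⟩⟩ | ⟨hp, h⟩ | ⟨hp, h | ⟨F, i1, i2, i3, ⟨f⟩⟩⟩
  · exact Or.inl ⟨F, i1, i2, i3, h4, ⟨e.symm.trans f⟩⟩
  · exact Or.inr (Or.inl ⟨F, i1, i2, i3, q, h4, h5, ⟨e.symm.trans f⟩⟩)
  · obtain ⟨K', i1, i2, m, hm, hK, ⟨f⟩⟩ := h
    exact Or.inr (Or.inr (Or.inl ⟨hp, K', i1, i2, m, hm, hK, ⟨e.symm.trans f⟩⟩))
  · obtain ⟨K', i1, i2, m, hm, hK, ⟨f⟩⟩ := h
    exact Or.inr (Or.inr (Or.inr ⟨hp, Or.inl ⟨K', i1, i2, m, hm, hK, ⟨e.symm.trans f⟩⟩⟩))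
  · exact Or.inr (Or.inr (Or.inr ⟨hp, Or.inr ⟨F, i1, i2, i3, ⟨e.symm.trans f⟩⟩⟩))

theorem Res.congr {p : ℕ} {K : Type v} {L : Type w} [Group K] [Group L] (e : K ≃* L) {b c : Prop} (hbc : b → c)
    (h : Res p K b) : Res p L c := by
  rcases h with h | ⟨hp, hb, h⟩
  · exact Or.inl (rankOne_congr e h)
  · exact Or.inr ⟨hp, hbc hb, h.congr e⟩

/-- The conclusion for all `p`-minimal `X` with a normal subgroup isomorphic to `Y`. -/
def PGood (p : ℕ) (Y : Type v) [Group Y] : Prop :=
  ∀ (X : Type u) [Group X] [Finite X] (f : Y →* X), Function.Injective f → f.range.Normal → IsPMinimal p X →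
    (∃ U : Subgroup Y, IsPGroup p U ∧ ¬ p ∣ U.index ∧ IsCoatom (normalizer (U.map f : Set X))) ∧ Res p Y (f.range ≠ ⊤)

theorem PGood.congr {p : ℕ} {Y : Type v} {Z : Type w} [Group Y] [Group Z] (e : Y ≃* Z) (h : PGood.{u} p Y) :
    PGood.{u} p Z := by
  intro X _ _ f hf hn hX
  have hr : (f.comp e.toMonoidHom).range = f.range := by
    rw [MonoidHom.range_comp, MonoidHom.range_eq_top_of_surjective _ e.surjective, ← MonoidHom.range_eq_map]
  obtain ⟨⟨U, hU, hi, hc⟩, hR⟩ := h X (f.comp e.toMonoidHom) (hf.comp e.injective) (by rw [hr]; exact hn) hX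
  refine ⟨⟨U.map e.toMonoidHom, hU.map _, ?_, ?_⟩, hR.congr e fun hb => by rwa [hr] at hb⟩
  · rwa [Subgroup.index_map_of_bijective (f := e.toMonoidHom) e.bijective]
  · rw [Subgroup.map_map]
    exact hc

/-- The final form. -/
theorem PGood.final {p : ℕ} [Fact p.Prime] {X : Type u} [Group X] [Finite X] {K : Subgroup X} (hK : K.Normal)
    (h : PGood.{u} p K) (hX : IsPMinimal p X) (U : Sylow p K) :
    IsCoatom (normalizer (((U : Subgroup K).map K.subtype : Subgroup X) : Set X)) ∧ Res p K (K ≠ ⊤) := by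
  obtain ⟨⟨V, hV, hi, hc⟩, hR⟩ := h X K.subtype K.subtype_injective (by rw [K.range_subtype]; exact hK) hX
  rw [K.range_subtype] at hR
  refine ⟨?_, hR⟩
  obtain ⟨k, hk⟩ := MulAction.exists_smul_eq K (hV.toSylow hi) U
  have h1 : (U : Subgroup K) = V.map (MulAut.conj k).toMonoidHom := by
    rw [← hk]
    rfl
  have h2 : (U : Subgroup K).map K.subtype = (V.map K.subtype).map (MulAut.conj (k : X)).toMonoidHom := by
    rw [h1, Subgroup.map_map, Subgroup.map_map]
    congr 1
  have h3 : normalizer (((U : Subgroup K).map K.subtype : Subgroup X) : Set X) =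
      (MulEquiv.mapSubgroup (MulAut.conj (k : X))) (normalizer (V.map K.subtype : Set X)) := by
    rw [h2]
    exact (Subgroup.map_equiv_normalizer_eq (V.map K.subtype) (MulAut.conj (k : X))).symm
  rw [h3, OrderIso.isCoatom_iff]
  exact hc

theorem pgood_of_sys {p : ℕ} [Fact p.Prime] {Y : Type v} [Group Y] {ι : Type w} [Nonempty ι] (Z : PSys p Y ι)
    (h : ∀ (X : Type u) [Group X] [Finite X] (f : Y →* X), Function.Injective f → f.range.Normal → IsPMinimal p X →
      (∀ i j, ∃ α : MulAut Y, Z.U.map α.toMonoidHom = Z.U ∧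
        (Z.e {i} : Subgroup Y).map α.toMonoidHom = (Z.e {j} : Subgroup Y)) →
      (∀ i j : ι, i ≠ j → f.range ≠ ⊤) → (∀ i j : ι, i ≠ j → (∀ k, k = i ∨ k = j) → p = 2) →
      Res p Y (f.range ≠ ⊤)) : PGood.{u} p Y := by
  intro X _ _ f hf hn hX
  obtain ⟨h1, h2, h3, h4⟩ := PMinSys.main hX f hf hn Z
  exact ⟨⟨Z.U, Z.isP, Z.idx, h1⟩, h X f hf hn hX h2 h3 h4⟩

/-- rank one -/
theorem pgood_of_rankOne {p : ℕ} [Fact p.Prime] {Y : Type v} [Group Y] {ι : Type w} [Nonempty ι] (Z : PSys p Y ι)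
    (h : IsLieRankOneChar p Y) : PGood.{u} p Y :=
  pgood_of_sys Z fun _ _ _ _ _ _ _ _ _ _ => Or.inl h

/-- rank two, with transitive automorphisms -/
theorem pgood_of_rankTwo {p : ℕ} [Fact p.Prime] {Y : Type v} [Group Y] {ι : Type w} [Nonempty ι] (Z : PSys p Y ι)
    {i j : ι} (hij : i ≠ j) (hk : ∀ k, k = i ∨ k = j) (h : p = 2 → Rk2 Y) : PGood.{u} p Y :=
  pgood_of_sys Z fun _ _ _ _ _ _ _ _ h3 h4 =>
    have hp := h4 i j hij hk
    Or.inr ⟨hp, h3 i j hij, h hp⟩

/-- two nodes which are not conjugate -/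
theorem pgood_of_sep {p : ℕ} [Fact p.Prime] {Y : Type v} [Group Y] {ι : Type w} [Nonempty ι] (Z : PSys p Y ι)
    {i j : ι} (h : ∀ α : MulAut Y, Z.U.map α.toMonoidHom = Z.U →
      (Z.e {i} : Subgroup Y).map α.toMonoidHom ≠ (Z.e {j} : Subgroup Y)) : PGood.{u} p Y :=
  pgood_of_sys Z fun _ _ _ _ _ _ _ h2 _ _ =>
    have ⟨α, h5, h6⟩ := h2 i j
    absurd h6 (h α h5)

section rgd

open CoxeterSystem Cfsg.Agent.ChevalleyStructure.CoxeterGeom Cfsg.Agent.Tits.Roots Cfsg.Agent.Tits.Core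
  Cfsg.Agent.Nodes.BNOf Cfsg.Agent.Nodes.Reps
  Cfsg.Agent.KFacts.RgdAut Cfsg.Agent.KFacts.RgdDiag

variable {I W : Type*} {Y : Type v} [Fintype I] [DecidableEq I] [Group W] [Group Y] {M : CoxeterMatrix I}
  {cs : CoxeterSystem M W} {A : I → I → ℤ} {h : IsCartan M A} {p : ℕ} {T : Subgroup Y} {n : I → Y}
  {X : (I → ℤ) → Subgroup Y}
  (R : RGD cs h p T n X) (hG1 : RGD.Sup X {x | IsRoot cs h x} = ⊤)

include R hG1

theorem rgd_sep [Finite W] [Finite Y] [Fact p.Prime] {i j : I} (hs : ∀ β σ, Diag T X β σ → σ i ≠ j) : PGood.{u} p Y := by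
  haveI : Nonempty I := ⟨i⟩
  refine pgood_of_sep (PMinRgd.psys R hG1) (i := i) (j := j) fun α hU hP => ?_
  obtain ⟨β, σ, D, hσ⟩ := PMinRgd.exists_diag_of_map R hG1 hU hP
  exact hs β σ D hσ

/-- the number of neighbours of a node (itself included) -/
def val {I : Type*} [Fintype I] (M : CoxeterMatrix I) (i : I) : ℕ := (Finset.univ.filter fun j => M i j ≠ 2).card

omit R hG1 in
theorem val_comp {σ : Equiv.Perm I} (hσ : ∀ i j, M (σ i) (σ j) = M i j) (i : I) : val M (σ i) = val M i := by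
  unfold val
  symm
  apply Finset.card_bij (fun j _ => σ j)
  · intro j hj
    simp only [Finset.mem_filter, Finset.mem_univ, true_and] at hj ⊢
    rwa [hσ]
  · intro a _ b _ hab
    exact σ.injective hab
  · intro b hb
    refine ⟨σ.symm b, ?_, σ.apply_symm_apply b⟩
    simp only [Finset.mem_filter, Finset.mem_univ, true_and] at hb ⊢
    rw [← hσ, σ.apply_symm_apply]
    exact hb

theorem rgd_val [Finite W] [Finite Y] [Fact p.Prime] {i j : I} (hs : val M i ≠ val M j) : PGood.{u} p Y := by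
  refine rgd_sep R hG1 (i := i) (j := j) fun β σ D hσ => hs ?_
  rw [← hσ, val_comp (D.matrix R)]

theorem rgd_card [Finite W] [Finite Y] [Fact p.Prime] {i j : I}
    (hs : Nat.card (X (sr i)) ≠ Nat.card (X (sr j))) : PGood.{u} p Y := by
  refine rgd_sep R hG1 (i := i) (j := j) fun β σ D hσ => hs ?_
  rw [← hσ]
  exact (KFacts.RgdNodes.Diag.card_eq D i).symm

theorem rgd_rankOne [Nonempty I] [Finite W] [Finite Y] [Fact p.Prime] (hY : IsLieRankOneChar p Y) : PGood.{u} p Y :=
  pgood_of_rankOne (PMinRgd.psys R hG1) hY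

theorem rgd_rankTwo [Finite W] [Finite Y] [Fact p.Prime] {i j : I} (hij : i ≠ j) (hk : ∀ k, k = i ∨ k = j)
    (hY : p = 2 → Rk2 Y) : PGood.{u} p Y :=
  haveI : Nonempty I := ⟨i⟩
  pgood_of_rankTwo (PMinRgd.psys R hG1) hij hk hY

theorem rgd_rankTwo_sep [Finite W] [Finite Y] [Fact p.Prime] {i j : I} (hij : i ≠ j) (hk : ∀ k, k = i ∨ k = j)
    (hs : p = 2 → ∀ β σ, Diag T X β σ → σ i ≠ j) : PGood.{u} p Y := by
  by_cases hp : p = 2
  · exact rgd_sep R hG1 (hs hp)
  · exact rgd_rankTwo R hG1 hij hk fun h => absurd h hp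

end rgd

end Cfsg.Agent.H223.PMinGood
end

-- part: H223/PMinTwo
section
set_option autoImplicit false
set_option linter.style.haveILetI false
set_option linter.unusedSectionVars false

/-!
# p-minimal groups: two invariant subgroups

`pgood_of_two` : `K` simple, normal in `H` with `H / K` a `p`-group, `H` containing a Sylow `p`-subgroup `U` of `Aut K`
(of order `p ^ a`), and two proper overgroups `P`, `Q` of `U` generating `H`: then no `p`-minimal group has a normal
subgroup isomorphic to `K`.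
-/

namespace Cfsg.Agent.H223.PMinTwo

open Subgroup Cfsg Cfsg.Agent.H223.PMinSys Cfsg.Agent.H223.PMinGood

universe u v w

variable {p : ℕ} [Fact p.Prime] {H : Type w} {K : Type v} [Group H] [Group K] (j : K →* H)
  (hj : Function.Injective j) (hjn : j.range.Normal)

include hj hjn in
/-- the intersections with `K` generate `K` -/
theorem comap_sup [IsSimpleGroup K] {U P Q : Subgroup H} (hUP : U ≤ P) (hUQ : U ≤ Q) (hUK : U ⊔ j.range = ⊤)
    (hP : P ≠ ⊤) (_hQ : Q ≠ ⊤) (hPQ : P ⊔ Q = ⊤) : P.comap j ⊔ Q.comap j = ⊤ := by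
  haveI := hjn
  -- `P = U (P ∩ K)`
  have key : ∀ R : Subgroup H, U ≤ R → ∀ g ∈ R, ∃ u ∈ U, ∃ k ∈ R.comap j, g = u * j k := by
    intro R hR g hg
    have h1 : g ∈ U ⊔ j.range := by rw [hUK]; trivial
    rw [← SetLike.mem_coe, Subgroup.mul_normal] at h1
    obtain ⟨u, hu, _, ⟨k, rfl⟩, e⟩ := h1
    have e' : u * j k = g := e
    refine ⟨u, hu, k, ?_, e'.symm⟩
    rw [Subgroup.mem_comap]
    have : j k = u⁻¹ * g := by rw [← e']; group
    rw [this]
    exact mul_mem (inv_mem (hR hu)) hg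
  set L : Subgroup K := P.comap j ⊔ Q.comap j with hL
  have hnorm : ∀ u ∈ U, ∀ R : Subgroup H, U ≤ R → ∀ k ∈ R.comap j, u * j k * u⁻¹ ∈ (R.comap j).map j := by
    intro u hu R hR k hk
    have h1 : u * j k * u⁻¹ ∈ j.range := hjn.conj_mem _ ⟨k, rfl⟩ u
    obtain ⟨k', hk'⟩ := h1
    refine ⟨k', ?_, hk'⟩
    show j k' ∈ R
    rw [hk']
    exact mul_mem (mul_mem (hR hu) hk) (inv_mem (hR hu))
  have hUL : U ≤ normalizer (L.map j : Set H) := by
    have key2 : ∀ u ∈ U, L.map j ≤ (L.map j).comap (MulAut.conj u).toMonoidHom := by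
      intro u hu
      rw [hL, Subgroup.map_sup]
      refine sup_le ?_ ?_
      · rintro _ ⟨k, hk, rfl⟩
        exact (le_sup_left : (P.comap j).map j ≤ _) (hnorm u hu P hUP k hk)
      · rintro _ ⟨k, hk, rfl⟩
        exact (le_sup_right : (Q.comap j).map j ≤ _) (hnorm u hu Q hUQ k hk)
    intro u hu
    rw [Subgroup.mem_normalizer_iff]
    intro x
    refine ⟨fun hx => key2 u hu hx, fun hx => ?_⟩
    have h1 := key2 u⁻¹ (inv_mem hu) hx
    have h2 : u⁻¹ * (u * x * u⁻¹) * u⁻¹⁻¹ ∈ L.map j := h1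
    have h3 : u⁻¹ * (u * x * u⁻¹) * u⁻¹⁻¹ = x := by group
    rwa [h3] at h2
  have hPL : P ≤ normalizer (L.map j : Set H) := by
    intro g hg
    obtain ⟨u, hu, k, hk, rfl⟩ := key P hUP g hg
    exact mul_mem (hUL hu) (le_normalizer ⟨k, (le_sup_left : P.comap j ≤ L) hk, rfl⟩)
  have hQL : Q ≤ normalizer (L.map j : Set H) := by
    intro g hg
    obtain ⟨u, hu, k, hk, rfl⟩ := key Q hUQ g hg
    exact mul_mem (hUL hu) (le_normalizer ⟨k, (le_sup_right : Q.comap j ≤ L) hk, rfl⟩)
  have htop : normalizer (L.map j : Set H) = ⊤ := by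
    rw [eq_top_iff, ← hPQ]
    exact sup_le hPL hQL
  have hLn : L.Normal := by
    constructor
    intro x hx g
    have h1 : j g ∈ normalizer (L.map j : Set H) := by rw [htop]; trivial
    have h2 := (Subgroup.mem_normalizer_iff.1 h1 (j x)).1 ⟨x, hx, rfl⟩
    rw [← map_inv, ← map_mul, ← map_mul, Subgroup.mem_map_iff_mem hj] at h2
    exact h2
  rcases hLn.eq_bot_or_eq_top with h | h
  · exfalso
    have hb : ∀ R : Subgroup H, U ≤ R → R.comap j ≤ L → R = U := by
      intro R hR hRL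
      refine le_antisymm (fun g hg => ?_) hR
      obtain ⟨u, hu, k, hk, rfl⟩ := key R hR g hg
      have h1 : k = 1 := by
        have := hRL hk
        rwa [h, Subgroup.mem_bot] at this
      rw [h1, map_one, mul_one]
      exact hu
    have h1 := hb P hUP le_sup_left
    have h2 := hb Q hUQ le_sup_right
    rw [h1, h2, sup_idem] at hPQ
    exact hP (h1.trans hPQ)
  · exact h

/-- the action of `H` on `K` -/
theorem pgood_of_two [Finite H] [IsSimpleGroup K] {U P Q : Subgroup H} {a : ℕ} (hU : Nat.card U = p ^ a)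
    (hA : ¬ p ^ (a + 1) ∣ Nat.card (MulAut K)) (hC : ∀ h : H, (∀ k, h * j k * h⁻¹ = j k) → h = 1)
    (hpK : p ∣ Nat.card K) (hUP : U ≤ P) (hUQ : U ≤ Q) (hUK : U ⊔ j.range = ⊤)
    (hP : P ≠ ⊤) (hQ : Q ≠ ⊤) (hPQ : P ⊔ Q = ⊤) (hj : Function.Injective j) (hjn : j.range.Normal) :
    PGood.{u} p K := by
  intro X _ _ f hf hn hX
  exfalso
  haveI : Finite K := Finite.of_injective f hf
  haveI : Finite (MulAut K) := Finite.of_injective (fun α : MulAut K => (α : K → K)) DFunLike.coe_injective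
  have hcen : center K = ⊥ := by
    rcases (inferInstance : (center K).Normal).eq_bot_or_eq_top with h | h
    · exact h
    · exfalso
      -- then `K` is central in itself: elements of `j.range` centralise
      obtain ⟨k, hk⟩ := exists_ne (1 : K)
      apply hk
      apply hj
      rw [map_one]
      apply hC
      intro y
      have h1 : k ∈ center K := by rw [h]; trivial
      have h2 := Subgroup.mem_center_iff.1 h1 y
      rw [← map_mul, ← map_inv, ← map_mul, ← h2, mul_inv_cancel_right]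
  have hT : ∀ T : Sylow p K, ¬ (T : Subgroup K).Normal := by
    intro T hTn
    rcases hTn.eq_bot_or_eq_top with h | h
    · have h1 := T.not_dvd_index
      rw [h, Subgroup.index_bot] at h1
      exact h1 hpK
    · have h1 : IsPGroup p K := by
        intro k
        obtain ⟨n, hn⟩ := T.isPGroup' ⟨k, by rw [h]; trivial⟩
        exact ⟨n, congrArg Subtype.val hn⟩
      have h2 := h1.center_nontrivial
      rw [Subgroup.nontrivial_iff_ne_bot] at h2
      exact h2 hcen
  obtain ⟨T⟩ : Nonempty (Sylow p K) := inferInstance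
  obtain ⟨S, hS⟩ := (T.isPGroup'.map f).exists_le_sylow
  have hcomap : (S : Subgroup X).comap f = T := by
    have h1 : IsPGroup p ((S : Subgroup X).comap f) := S.isPGroup'.comap_of_injective f hf
    have h2 : (T : Subgroup K) ≤ (S : Subgroup X).comap f := Subgroup.map_le_iff_le_comap.1 hS
    exact T.is_maximal' h1 h2
  obtain ⟨-, M, ⟨hM, hSM⟩, huniq⟩ := hX S
  have hmax : ∀ L : Subgroup X, (S : Subgroup X) ≤ L → L ≠ ⊤ → L ≤ M := by
    intro L hL hne
    obtain ⟨M', hM', hLM'⟩ := (eq_top_or_exists_le_coatom L).resolve_left hne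
    have h1 := huniq M' ⟨hM', hL.trans hLM'⟩
    rwa [← h1]
  -- `U` is a Sylow subgroup of `Aut K`
  have hψ : Function.Injective (act j hj hjn) := by
    rw [injective_iff_map_eq_one]
    intro h hh
    apply hC
    intro k
    rw [← f_act j hj hjn, hh]
    rfl
  have hUs : IsPGroup p (U.map (act j hj hjn)) := (IsPGroup.of_card hU).map _
  have hUi : ¬ p ∣ (U.map (act j hj hjn)).index := by
    intro hdvd
    apply hA
    rw [← Subgroup.card_mul_index (U.map (act j hj hjn)), pow_succ]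
    refine mul_dvd_mul ?_ hdvd
    rw [← hU]
    exact (Nat.card_congr (U.equivMapOfInjective _ hψ).toEquiv).dvd
  obtain ⟨A, hA'⟩ := (S.isPGroup'.map (act f hf hn)).exists_le_sylow
  obtain ⟨α, hα⟩ := MulAction.exists_smul_eq (MulAut K) (hUs.toSylow hUi) A
  -- the elements of `S`
  have hSact : ∀ s ∈ S, ∃ u ∈ U, act f hf hn s = α * act j hj hjn u * α⁻¹ := by
    intro s hs
    have h1 : act f hf hn s ∈ (A : Subgroup (MulAut K)) := hA' ⟨s, hs, rfl⟩
    rw [← hα] at h1
    obtain ⟨_, ⟨u, hu, rfl⟩, e⟩ := h1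
    exact ⟨u, hu, e.symm⟩
  have hsup := comap_sup j hj hjn hUP hUQ hUK hP hQ hPQ
  -- the image of the intersection lies in `M`
  have key : ∀ R : Subgroup H, U ≤ R → R ≠ ⊤ → ((R.comap j).map α.toMonoidHom).map f ≤ M := by
    intro R hR hRt
    set R' : Subgroup K := (R.comap j).map α.toMonoidHom with hR'
    have hstep : ∀ s ∈ S, ∀ k ∈ R', s * f k * s⁻¹ ∈ R'.map f := by
      intro s hs k hk
      obtain ⟨x, hx, rfl⟩ := hk
      obtain ⟨u, hu, e⟩ := hSact s hs
      rw [← f_act f hf hn, e]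
      refine ⟨_, ?_, rfl⟩
      refine ⟨act j hj hjn u x, ?_, ?_⟩
      · show j _ ∈ R
        rw [f_act]
        exact mul_mem (mul_mem (hR hu) hx) (inv_mem (hR hu))
      · show α (act j hj hjn u x) = α (act j hj hjn u (α⁻¹ (α x)))
        rw [MulAut.inv_apply_self]
    have hnorm : (S : Subgroup X) ≤ normalizer (R'.map f : Set X) := by
      intro s hs
      rw [Subgroup.mem_normalizer_iff]
      intro x
      constructor
      · rintro ⟨k, hk, rfl⟩
        exact hstep s hs k hk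
      · rintro ⟨k, hk, e⟩
        have h1 := hstep s⁻¹ (inv_mem hs) k hk
        rw [e] at h1
        have h2 : s⁻¹ * (s * x * s⁻¹) * s⁻¹⁻¹ = x := by group
        rwa [h2] at h1
    have hL : (S : Subgroup X) ⊔ R'.map f ≠ ⊤ := by
      intro htop
      apply hRt
      rw [eq_top_iff, ← hUK]
      refine sup_le hR ?_
      rintro _ ⟨k, rfl⟩
      have h2 : f (α k) ∈ (S : Subgroup X) ⊔ R'.map f := by rw [htop]; trivial
      rw [← SetLike.mem_coe, Subgroup.coe_mul_of_left_le_normalizer_right _ _ hnorm] at h2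
      obtain ⟨s, hs, _, ⟨_, ⟨x, hx, rfl⟩, rfl⟩, e⟩ := h2
      have e' : s * f (α x) = f (α k) := e
      have hs' : s = f (α (k * x⁻¹)) := by
        rw [map_mul, map_mul, map_inv, map_inv, ← e']
        exact (mul_inv_cancel_right _ _).symm
      obtain ⟨u, hu, e2⟩ := hSact s hs
      have h3 : act j hj hjn (j (k * x⁻¹)) = act j hj hjn u := by
        have h4 : act j hj hjn u = α⁻¹ * act f hf hn s * α := by rw [e2]; group
        rw [h4]
        ext y
        apply hj
        rw [f_act]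
        have h5 : act f hf hn s (α y) = α (k * x⁻¹ * y * (k * x⁻¹)⁻¹) := by
          apply hf
          rw [f_act, hs']
          simp only [map_mul, map_inv]
        show _ = j (α⁻¹ (act f hf hn s (α y)))
        rw [h5, MulAut.inv_apply_self]
        simp only [map_mul, map_inv]
      have h4 : j (k * x⁻¹) ∈ R := by
        rw [hψ h3]
        exact hR hu
      have h5 : j x ∈ R := hx
      have h6 : j k = j (k * x⁻¹) * j x := by rw [← map_mul, inv_mul_cancel_right]
      rw [h6]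
      exact mul_mem h4 h5
    exact le_trans le_sup_right (hmax _ le_sup_left hL)
  have hKM : f.range ≤ M := by
    have h1 : ((P.comap j).map α.toMonoidHom).map f ⊔ ((Q.comap j).map α.toMonoidHom).map f ≤ M :=
      sup_le (key P hUP hP) (key Q hUQ hQ)
    rw [← Subgroup.map_sup, ← Subgroup.map_sup, hsup, Subgroup.map_top_of_surjective _ α.surjective,
      ← MonoidHom.range_eq_map] at h1
    exact h1
  -- Frattini
  have hNM : normalizer ((T : Subgroup K).map f : Set X) ≤ M := by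
    refine hmax _ ?_ ?_
    · have hstep : ∀ s ∈ S, ∀ k ∈ (T : Subgroup K), s * f k * s⁻¹ ∈ (T : Subgroup K).map f := by
        intro s hs k hk
        rw [← f_act f hf hn]
        refine ⟨_, ?_, rfl⟩
        rw [← hcomap] at hk ⊢
        show f (act f hf hn s k) ∈ S
        rw [f_act]
        exact mul_mem (mul_mem hs hk) (inv_mem hs)
      intro s hs
      rw [Subgroup.mem_normalizer_iff]
      intro x
      constructor
      · rintro ⟨k, hk, rfl⟩
        exact hstep s hs k hk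
      · rintro ⟨k, hk, e⟩
        have h1 := hstep s⁻¹ (inv_mem hs) k hk
        rw [e] at h1
        have h2 : s⁻¹ * (s * x * s⁻¹) * s⁻¹⁻¹ = x := by group
        rwa [h2] at h1
    · intro htop
      apply hT T
      constructor
      intro x hx g
      have h1 : f g ∈ normalizer ((T : Subgroup K).map f : Set X) := by rw [htop]; trivial
      have h2 := (Subgroup.mem_normalizer_iff.1 h1 (f x)).1 ⟨x, hx, rfl⟩
      rw [← map_inv, ← map_mul, ← map_mul, Subgroup.mem_map_iff_mem hf] at h2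
      exact h2
  apply hM.1
  rw [eq_top_iff]
  intro x _
  haveI := hn
  let T' : Sylow p f.range := T.mapSurjective (f := f.rangeRestrict) f.rangeRestrict_surjective
  have h1 := T'.normalizer_sup_eq_top
  have h2 : (T' : Subgroup f.range).map f.range.subtype = (T : Subgroup K).map f := by
    show ((T : Subgroup K).map f.rangeRestrict).map f.range.subtype = _
    rw [Subgroup.map_map]
    rfl
  rw [h2] at h1
  have h3 : x ∈ f.range ⊔ normalizer ((T : Subgroup K).map f : Set X) := by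
    rw [sup_comm, h1]
    trivial
  exact (sup_le hKM hNM) h3

end Cfsg.Agent.H223.PMinTwo
end

-- part: H223/PMinTits
section
set_option autoImplicit false
set_option linter.style.haveILetI false
set_option linter.unusedSectionVars false

/-!
# p-minimal groups: the Tits group
-/

namespace Cfsg.Agent.H223.PMinTits

open Subgroup Cfsg Cfsg.Agent.H223.PMinSys Cfsg.Agent.H223.PMinGood Cfsg.Agent.H223.PMinTwo

universe u v w

/-- the centraliser of a subgroup of index two -/
theorem eq_one_of_index_two {H : Type w} [Group H] {C : Subgroup H} (hidx : C.index = 2)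
    (hZ : center H = ⊥) (hC : center C = ⊥) {h : H} (hh : ∀ k : C, h * k * h⁻¹ = k) : h = 1 := by
  have hcomm : ∀ k ∈ C, h * k = k * h := fun k hk => by
    have := hh ⟨k, hk⟩
    exact mul_inv_eq_iff_eq_mul.1 this
  by_cases hhC : h ∈ C
  · have h1 : (⟨h, hhC⟩ : C) ∈ center C := by
      rw [Subgroup.mem_center_iff]
      intro k
      exact Subtype.ext (hcomm k k.2).symm
    rw [hC, Subgroup.mem_bot] at h1
    exact congrArg Subtype.val h1
  · have h1 : h ∈ center H := by
      rw [Subgroup.mem_center_iff]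
      intro g
      by_cases hg : g ∈ C
      · exact (hcomm g hg).symm
      · have h2 : h * g ∈ C := by
          rw [Subgroup.mul_mem_iff_of_index_two hidx]
          exact iff_of_false hhC hg
        have h3 := hcomm _ h2
        rw [mul_assoc] at h3
        exact (mul_left_cancel h3).symm
    rw [hZ, Subgroup.mem_bot] at h1
    exact h1

theorem pgood_of_index_two {H : Type w} [Group H] [Finite H] {C : Subgroup H} (hidx : C.index = 2)
    (hZ : center H = ⊥) (hs : IsSimpleGroup C) (hC : center C = ⊥) {U P Q : Subgroup H} {a : ℕ}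
    (hU : Nat.card U = 2 ^ a) (hA : ¬ 2 ^ (a + 1) ∣ Nat.card (MulAut C)) (h2 : 2 ∣ Nat.card C)
    (hUP : U ≤ P) (hUQ : U ≤ Q) (hUC : U ⊔ C = ⊤) (hP : P ≠ ⊤) (hQ : Q ≠ ⊤) (hPQ : P ⊔ Q = ⊤) :
    PGood.{u} 2 C := by
  have : Fact (Nat.Prime 2) := ⟨Nat.prime_two⟩
  have hCn : C.Normal := Subgroup.normal_of_index_eq_two hidx
  refine pgood_of_two C.subtype hU hA (fun h hh => eq_one_of_index_two hidx hZ hC hh) h2 hUP hUQ ?_ hP hQ hPQ
    C.subtype_injective ?_
  · rw [C.range_subtype]; exact hUC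
  · rw [C.range_subtype]; exact hCn

section Tits

open scoped MatrixGroups
open Cfsg.Agent.ChevalleyStructure.Tits.Data Cfsg.Agent.ChevalleyStructure.Tits.Rank2
  Cfsg.Agent.ChevalleyStructure.Tits.Sat Cfsg.Agent.ChevalleyStructure.Tits.Final
  Cfsg.Agent.ChevalleyStructure.Tits.Main Cfsg.Agent.ChevalleyStructure.Tits.Order
  Cfsg.Agent.ChevalleyStructure.Tits.Mat
  Cfsg.Agent.Omega.TwoF.TitsAut

theorem pgood_H0 : PGood.{u} 2 ↥(_root_.commutator H0) := by
  have hfin := fin_H0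
  have hX := card_X (y := yH) Sat_yH (yH_ne_one (by norm_num)) yH7_sq
  have hG : (rd Sat_yH).G = ⊤ := by rw [rd_G Sat_yH, gen_yH]
  have hU : Nat.card (rd Sat_yH).U = 4096 := card_V_yH
  have hcard := card_H0
  have hZ : center H0 = ⊥ := by
    apply core _ inferInstance
    intro z hz
    refine mem_of_norm (rd Sat_yH) hX hU hG hcard fun u hu => ?_
    rw [← Subgroup.mem_center_iff.1 hz u, mul_inv_cancel_right]
    exact hu
  have hPne : ∀ s, Pp (rd Sat_yH) s ≠ ⊤ := by
    intro s h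
    have h1 := card_P (rd Sat_yH) hX hU hG hcard s
    rw [h, Subgroup.card_top, hcard] at h1
    cases s <;> norm_num at h1
  refine pgood_of_index_two (U := V yH 0) (P := Pp (rd Sat_yH) false) (Q := Pp (rd Sat_yH) true) (a := 12)
    H0_result.1 hZ H0_result.2.1 (center_of H0_result.2.1 H0_result.2.2.1) (by rw [card_V_yH]; norm_num) not_dvd_H0
    ?_ (U_le_P (rd Sat_yH) false) (U_le_P (rd Sat_yH) true) ?_ (hPne _) (hPne _) ?_
  · rw [H0_result.2.2.2]
    norm_num
  · rw [sup_comm]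
    exact sup_H0
  · rw [eq_top_iff, ← hG]
    unfold RD.G
    rw [Subgroup.closure_le]
    rintro x (hx | ⟨s, rfl⟩)
    · exact (le_sup_left : Pp (rd Sat_yH) false ≤ _) (U_le_P _ _ hx)
    · cases s
      · exact (le_sup_left : Pp (rd Sat_yH) false ≤ _) (n_mem_P _ _)
      · exact (le_sup_right : Pp (rd Sat_yH) true ≤ _) (n_mem_P _ _)

theorem pgood_aux (T : Subgroup (GL I52 (ZMod 2))) (hT : T = H0) : PGood.{u} 2 ↥(commutator T) := by
  subst hT
  exact pgood_H0

theorem congr_aux {G : Type w} [Group G] (T : Subgroup G) (h : PGood.{u} 2 ↥(commutator T)) {K : Type v} [Group K]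
    (e : K ≃* commutator T) : PGood.{u} 2 K := h.congr e.symm

theorem pgood_Tits {G : Type v} [Group G] (h : Lie.IsoTits G) : PGood.{u} 2 G := by
  obtain ⟨T, hT, ⟨e⟩⟩ := Omega.TwoF.TitsAut.exists_equiv h
  exact congr_aux T (pgood_aux T hT) e

end Tits

end Cfsg.Agent.H223.PMinTits
end

-- part: H223/PMinFam
section
set_option autoImplicit false
set_option linter.style.haveILetI false
set_option linter.unusedSectionVars false

/-!
# p-minimal groups with a normal subgroup of Lie type: the families with a root group datum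
-/

namespace Cfsg.Agent.H223.PMinFam

open Subgroup Cfsg Cfsg.Agent.H223.PMinSys Cfsg.Agent.H223.PMinGood
open CoxeterSystem Cfsg.Agent.ChevalleyStructure.CoxeterGeom Cfsg.Agent.Tits.Roots Cfsg.Agent.Tits.Core
  Cfsg.Agent.Tits.RootComb Cfsg.Agent.Nodes.Comb Cfsg.Agent.Nodes.Reps Cfsg.Agent.Nodes.BNOf Cfsg.Agent.FixBN

universe u v

/-- a path with at least three nodes -/
theorem val_path {l : ℕ} (M : CoxeterMatrix (Fin l)) (hl : 3 ≤ l)
    (hM : ∀ i j : Fin l, i ≠ j → (M i j ≠ 2 ↔ (i : ℕ) + 1 = j ∨ (j : ℕ) + 1 = i)) :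
    val M ⟨0, by omega⟩ ≠ val M ⟨1, by omega⟩ := by
  have h0 : val M ⟨0, by omega⟩ ≤ 2 := by
    have h1 : (Finset.univ.filter fun j => M ⟨0, by omega⟩ j ≠ 2) ⊆ {⟨0, by omega⟩, ⟨1, by omega⟩} := by
      intro j hj
      rw [Finset.mem_filter] at hj
      rw [Finset.mem_insert, Finset.mem_singleton]
      by_cases h : (⟨0, by omega⟩ : Fin l) = j
      · exact Or.inl h.symm
      · have h2 := (hM _ _ h).1 hj.2
        right
        apply Fin.ext
        simp only at h2
        show (j : ℕ) = 1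
        omega
    exact (Finset.card_le_card h1).trans Finset.card_le_two
  have h1 : 2 < val M ⟨1, by omega⟩ := by
    rw [val, Finset.two_lt_card]
    refine ⟨⟨0, by omega⟩, ?_, ⟨1, by omega⟩, ?_, ⟨2, by omega⟩, ?_, ?_, ?_, ?_⟩
    · rw [Finset.mem_filter]
      exact ⟨Finset.mem_univ _, (hM _ _ (by simp [Fin.ext_iff])).2 (Or.inr rfl)⟩
    · rw [Finset.mem_filter]
      refine ⟨Finset.mem_univ _, ?_⟩
      rw [M.diagonal]
      norm_num
    · rw [Finset.mem_filter]
      exact ⟨Finset.mem_univ _, (hM _ _ (by simp [Fin.ext_iff])).2 (Or.inl rfl)⟩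
    · simp [Fin.ext_iff]
    · simp [Fin.ext_iff]
    · simp [Fin.ext_iff]
  omega

theorem val_A {n : ℕ} (hn : 3 ≤ n) :
    val (LieRecognition.BNCox.cA n) ⟨0, by omega⟩ ≠ val (LieRecognition.BNCox.cA n) ⟨1, by omega⟩ := by
  refine val_path _ hn fun i j hij => ?_
  have hij' : (i : ℕ) ≠ j := fun e => hij (Fin.ext e)
  change LieRecognition.CoxClass.mA (i : ℕ) (j : ℕ) ≠ 2 ↔ _
  unfold LieRecognition.CoxClass.mA
  split_ifs <;> omega

theorem val_B {n : ℕ} (hn : 3 ≤ n) :
    val (CoxeterMatrix.B n) ⟨0, by omega⟩ ≠ val (CoxeterMatrix.B n) ⟨1, by omega⟩ := by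
  refine val_path _ hn fun i j hij => ?_
  have hij' : (i : ℕ) ≠ j := fun e => hij (Fin.ext e)
  have hi := i.2
  have hj := j.2
  simp only [CoxeterMatrix.B, Matrix.of_apply, hij, if_false]
  split_ifs <;> omega

/-- type `D`: the branch node has three neighbours -/
theorem val_D (n : ℕ) : val (Nodes.TypeD.M (n + 2)) ⟨n + 1, by omega⟩ ≠ val (Nodes.TypeD.M (n + 2)) ⟨n + 2, by omega⟩ := by
  have hM : ∀ i j : Fin (n + 4), i ≠ j → ((Nodes.TypeD.M (n + 2)) i j ≠ 2 ↔
      Nodes.TypeD.Adj i j ∨ Nodes.TypeD.Adj j i) := by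
    intro i j hij
    rw [Nodes.TypeD.M_apply, if_neg hij]
    split_ifs with h <;> simp [h]
  have hbr : 2 < val (Nodes.TypeD.M (n + 2)) ⟨n + 1, by omega⟩ := by
    rw [val, Finset.two_lt_card]
    refine ⟨⟨n, by omega⟩, ?_, ⟨n + 2, by omega⟩, ?_, ⟨n + 3, by omega⟩, ?_, ?_, ?_, ?_⟩
    · rw [Finset.mem_filter]
      have hne : (⟨n + 1, by omega⟩ : Fin (n + 4)) ≠ ⟨n, by omega⟩ := fun e => by
        have := congrArg Fin.val e
        simp only at this
        omega
      exact ⟨Finset.mem_univ _, (hM _ _ hne).2 (Or.inr (Or.inl ⟨by simp only; omega, rfl⟩))⟩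
    · rw [Finset.mem_filter]
      have hne : (⟨n + 1, by omega⟩ : Fin (n + 4)) ≠ ⟨n + 2, by omega⟩ := fun e => by
        have := congrArg Fin.val e
        simp only at this
        omega
      exact ⟨Finset.mem_univ _, (hM _ _ hne).2 (Or.inl (Or.inl ⟨by simp only; omega, rfl⟩))⟩
    · rw [Finset.mem_filter]
      have hne : (⟨n + 1, by omega⟩ : Fin (n + 4)) ≠ ⟨n + 3, by omega⟩ := fun e => by
        have := congrArg Fin.val e
        simp only at this
        omega
      exact ⟨Finset.mem_univ _, (hM _ _ hne).2 (Or.inl (Or.inr ⟨rfl, rfl⟩))⟩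
    · intro e
      have := congrArg Fin.val e
      simp only at this
      omega
    · intro e
      have := congrArg Fin.val e
      simp only at this
      omega
    · intro e
      have := congrArg Fin.val e
      simp only at this
      omega
  have hle : val (Nodes.TypeD.M (n + 2)) ⟨n + 2, by omega⟩ ≤ 2 := by
    have h2 : (Finset.univ.filter fun j => (Nodes.TypeD.M (n + 2)) ⟨n + 2, by omega⟩ j ≠ 2) ⊆
        {⟨n + 2, by omega⟩, ⟨n + 1, by omega⟩} := by
      intro j hj
      rw [Finset.mem_filter] at hj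
      rw [Finset.mem_insert, Finset.mem_singleton]
      by_cases h : (⟨n + 2, by omega⟩ : Fin (n + 4)) = j
      · exact Or.inl h.symm
      · have h3 := (hM _ _ h).1 hj.2
        right
        apply Fin.ext
        unfold Nodes.TypeD.Adj at h3
        have hj2 := j.2
        have hne : (j : ℕ) ≠ n + 2 := fun e => h (Fin.ext e.symm)
        simp only at h3 ⊢
        omega
    exact (Finset.card_le_card h2).trans Finset.card_le_two
  -- the branch node has four entries
  have hbr' : val (Nodes.TypeD.M (n + 2)) ⟨n + 2, by omega⟩ < val (Nodes.TypeD.M (n + 2)) ⟨n + 1, by omega⟩ :=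
    lt_of_le_of_lt hle hbr
  exact hbr'.ne'

/-! ### Type `A` -/

section TypeA

open Nodes.RGDTypeA Cfsg.Agent.TitsThree.KSideA Matrix

theorem pgood_PSL {F : Type} [Field F] [Fintype F] (n : ℕ) (hn : 2 ≤ n) {p : ℕ} [Fact p.Prime] [hc : CharP F p]
    (h2 : n = 2 → 4 ≤ Fintype.card F) :
    PGood.{u} p (Matrix.ProjectiveSpecialLinearGroup (Fin n) F) := by
  obtain ⟨n, rfl⟩ : ∃ k, n = k + 1 := ⟨n - 1, by omega⟩
  have : Finite (LieRecognition.BNCox.cA n).Group :=
    Nodes.RootsA.finite_W (LieRecognition.BNCox.cA n).toCoxeterSystem (Nodes.RootsA.isCartan n)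
  have hfin : Finite (Matrix.ProjectiveSpecialLinearGroup (Fin (n + 1)) F) := by
    unfold Matrix.ProjectiveSpecialLinearGroup
    infer_instance
  have R := Nodes.RGDTypeA.rgd_psl (F := F) (p := p) (LieRecognition.BNCox.cA n).toCoxeterSystem (Nodes.RootsA.isCartan n)
  have hG := Nodes.RGDTypeA.G1_psl_eq_top (F := F) (LieRecognition.BNCox.cA n).toCoxeterSystem (Nodes.RootsA.isCartan n)
  rcases Nat.lt_or_ge n 3 with h3 | h3
  · obtain rfl | rfl : n = 1 ∨ n = 2 := by omega
    · haveI : Nonempty (Fin 1) := ⟨0⟩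
      exact rgd_rankOne R hG (Or.inl ⟨F, _, _, hc, h2 rfl, ⟨MulEquiv.refl _⟩⟩)
    · refine rgd_rankTwo R hG (i := 0) (j := 1) (by decide) (by decide) fun hp => ?_
      subst hp
      exact Or.inl ⟨F, inferInstance, inferInstance, hc, ⟨MulEquiv.refl _⟩⟩
  · exact rgd_val R hG (val_A h3)

end TypeA

/-! ### Type `B` -/

section Witt

open Cfsg.Agent.Nodes Cfsg.Agent.Nodes.WittAll Cfsg.Agent.Nodes.WittU Cfsg.Agent.Nodes.WittInst
  Cfsg.Agent.Nodes.WittRoot Cfsg.Agent.Nodes.WittRGD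
  Cfsg.Agent.TitsThree.Siegel Cfsg.Agent.TitsThree.SiegelGen
  Cfsg.Agent.TitsThree.WittFrame Cfsg.Agent.TitsThree.WBridge Cfsg.Agent.TitsThree.WittWeyl
  Cfsg.Agent.TitsThree.FrameCN

section Model

variable {F : Type*} [Field F] {V : Type*} [AddCommGroup V] [Module F V] {H : HForm F V} {n : ℕ}
  {Fr : Frame H (Fin n)}

theorem pgood_C {K : Type v} [Group K] [Finite K] (M : Model Fr K) {p : ℕ} (hA : AmbT Fr p M.I) [Finite V]
    [Fact p.Prime] [CharP F p] {p0 : Fr.Adm} (hp0 : p0.c ≠ 0) (hn : 3 ≤ n) : PGood.{u} p K := by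
  have hWf : Finite (CoxeterMatrix.B n).Group := TypeC.finite_W (CoxeterMatrix.B n).toCoxeterSystem
  exact rgd_val (rgdC_model M hA hp0 (CoxeterMatrix.B n).toCoxeterSystem) (WittModel.G1_eq_top _ (by omega) _) (val_B hn)

theorem pgood_C_one {K : Type v} [Group K] [Finite K] (M : Model Fr K) {p : ℕ} (hA : AmbT Fr p M.I) [Finite V]
    [Fact p.Prime] [CharP F p] {p0 : Fr.Adm} (hp0 : p0.c ≠ 0) (hn : n = 1) (hK : IsLieRankOneChar p K) :
    PGood.{u} p K := by
  subst hn
  have hWf : Finite (CoxeterMatrix.B 1).Group := TypeC.finite_W (CoxeterMatrix.B 1).toCoxeterSystem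
  haveI : Nonempty (Fin 1) := ⟨0⟩
  exact rgd_rankOne (rgdC_model M hA hp0 (CoxeterMatrix.B 1).toCoxeterSystem) (WittModel.G1_eq_top _ (by omega) _) hK

theorem pgood_C_two {K : Type v} [Group K] [Finite K] (M : Model Fr K) {p : ℕ} (hA : AmbT Fr p M.I) [Finite V]
    [Fact p.Prime] [CharP F p] {p0 : Fr.Adm} (hp0 : p0.c ≠ 0) (hn : n = 2) (hK : p = 2 → Rk2 K) :
    PGood.{u} p K := by
  subst hn
  have hWf : Finite (CoxeterMatrix.B 2).Group := TypeC.finite_W (CoxeterMatrix.B 2).toCoxeterSystem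
  exact rgd_rankTwo (rgdC_model M hA hp0 (CoxeterMatrix.B 2).toCoxeterSystem) (WittModel.G1_eq_top _ (by omega) _)
    (i := 0) (j := 1) (by decide) (by decide) hK

theorem card_X_model {K : Type v} [Group K] (M : Model Fr K) {p : ℕ} (hA : AmbT Fr p M.I) [Finite V]
    [Fact p.Prime] [CharP F p] {p0 : Fr.Adm} (hp0 : p0.c ≠ 0) (i : Fin n) :
    Nat.card (WittModel.X M (sr i)) = Nat.card (PG Fr (i, true) (TypeC.nx i)) := by
  have : Finite (V ≃ₗ[F] V) := Finite.of_injective (fun g : V ≃ₗ[F] V => (g : V → V)) DFunLike.coe_injective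
  have hWf : Finite (CoxeterMatrix.B n).Group := TypeC.finite_W (CoxeterMatrix.B n).toCoxeterSystem
  have Rd := RGDLib.rgd_restrict (rgdC hA hp0 (CoxeterMatrix.B n).toCoxeterSystem) M.I (fun x _ => hA.rg_le x)
    (fun i => WittAll.nn_mem hA p0 i)
  have h1 := CardSup.card_map_X Rd M.φ (WittAll.ker_le_center M) (isRoot_sr _ _ i)
  refine h1.trans ?_
  rw [Nat.card_congr (Subgroup.subgroupOfEquivOfLe (hA.rg_le (sr i))).toEquiv, WittRGD.rg_sr]

theorem card_ZG (a : Fin n × Bool) : Nat.card (ZG Fr a) = Nat.card Fr.Adm := by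
  symm
  refine Nat.card_congr (Equiv.ofBijective (fun t : Fr.Adm => (⟨Fr.Z a t, t, rfl⟩ : ZG Fr a)) ⟨?_, ?_⟩)
  · intro s t e
    have e1 : Fr.Z a s = Fr.Z a t := congrArg Subtype.val e
    have e2 := Z_apply_neg Fr a s
    rw [e1, Z_apply_neg Fr a t, add_assoc, add_assoc] at e2
    have e3 := add_left_cancel e2
    have hη := Fr.η_ne a
    -- pair with `b (neg a)`
    have key : ∀ u : Fr.Adm, H.h (Fr.η a • u.w + (u.c * Fr.η a) • Fr.b a) (Fr.b (neg a)) =
        u.c * Fr.η a * Fr.η (neg a) := by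
      intro u
      rw [H.add_left, H.smul_left, H.smul_left, Fr.h0' _ (Fr.ok_mem u.ok), mul_zero, zero_add, Fr.hb_self_neg]
    have e4 := key t
    rw [e3, key s] at e4
    have hc : s.c = t.c := by
      have h1 : Fr.η a * Fr.η (neg a) ≠ 0 := mul_ne_zero hη (Fr.η_ne _)
      rw [mul_assoc, mul_assoc] at e4
      exact mul_right_cancel₀ h1 e4
    rw [hc] at e3
    have e5 : Fr.η a • t.w = Fr.η a • s.w := add_right_cancel e3
    have hw : t.w = s.w := by
      have h1 := congrArg (fun v => (Fr.η a)⁻¹ • v) e5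
      simpa [smul_smul, inv_mul_cancel₀ hη] using h1
    exact Frame.Adm.ext hw.symm hc
  · rintro ⟨_, t, rfl⟩
    exact ⟨t, rfl⟩

end Model

theorem pgood_C_card {F : Type*} [Field F] {V : Type*} [AddCommGroup V] [Module F V] {H : HForm F V}
    {Fr : Frame H (Fin 2)} {K : Type v} [Group K] [Finite K] (M : Model Fr K) {p : ℕ} (hA : AmbT Fr p M.I) [Finite V]
    [Fact p.Prime] [CharP F p] {p0 : Fr.Adm} (hp0 : p0.c ≠ 0) (hc : Nat.card F ≠ Nat.card Fr.Adm) :
    PGood.{u} p K := by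
  have hWf : Finite (CoxeterMatrix.B 2).Group := TypeC.finite_W (CoxeterMatrix.B 2).toCoxeterSystem
  refine rgd_card (rgdC_model M hA hp0 (CoxeterMatrix.B 2).toCoxeterSystem) (WittModel.G1_eq_top _ (by omega) _)
    (i := 0) (j := 1) ?_
  rw [card_X_model M hA hp0, card_X_model M hA hp0]
  have h0 : TypeC.nx (0 : Fin 2) = (1, false) := by decide
  have h1 : TypeC.nx (1 : Fin 2) = (1, true) := by decide
  rw [h0, h1, PG_self, PG_ne Fr (by decide), card_ZG, CardWitt.card_XG Fr (by decide)]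
  exact hc

/-! ### Unitary groups -/

section Unitary

open Cfsg.Agent.TitsThree Cfsg.Agent.TitsThree.KSideU Cfsg.Agent.LieClassical.HermBasic Cfsg.Agent.Nodes.WittBlock

variable {F : Type} [Field F] [Fintype F] {q N m : ℕ} (hF : Fintype.card F = q ^ 2)

theorem card_adm_even (W : WFrame (PU hF N) m) (hW : Blocks hF W) (hN : N = 2 * m) :
    Nat.card F ≠ Nat.card (toFrame W).Adm := by
  intro hc
  have hfin : Finite (toFrame W).Adm := by
    apply Nat.finite_of_card_ne_zero
    rw [← hc]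
    exact Nat.card_pos.ne'
  have hinj : Function.Injective (fun a : (toFrame W).Adm => a.c) := by
    intro a b hab
    exact Frame.Adm.ext ((CardWitt.w_eq_zero hF W hW hN a).trans (CardWitt.w_eq_zero hF W hW hN b).symm) hab
  have hsurj := (hinj.bijective_of_nat_card_le hc.le).2
  -- then `c + c ^ q = 0` for all `c`
  have h1 : ∀ c : F, c + c ^ q = 0 := by
    intro c
    obtain ⟨a, rfl⟩ := hsurj c
    have h2 := a.ok.2
    have h3 := CardWitt.w_eq_zero hF W hW hN a
    rw [h3] at h2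
    have h4 : a.c + a.c ^ q = -hermForm N F q 0 0 := h2
    rw [h4]
    simp only [hermForm, _root_.Pi.zero_apply, _root_.MulZeroClass.zero_mul, _root_.Finset.sum_const_zero, _root_.neg_zero]
  obtain ⟨b, hb⟩ := exists_trace_eq hF (c := (-1 : F)) (by rw [neg_pow_q hF, one_pow])
  rw [h1] at hb
  have h3 : (1 : F) = 0 := by
    have := congrArg Neg.neg hb
    simpa using this.symm
  exact one_ne_zero h3

theorem card_adm_odd (W : WFrame (PU hF N) m) (hW : Blocks hF W) (hN : N = 2 * m + 1) :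
    Nat.card F ≠ Nat.card (toFrame W).Adm := by
  classical
  obtain ⟨p0, hp0, hpw⟩ := exists_adm hF W
  set! v : Fin N → F := Pi.single ⟨2 * m, by omega⟩ 1 with hv
  have hv0 : v ∈ W.V0 := by
    have key : ∀ w : Fin N → F, w ⟨2 * m, by omega⟩ = 0 → hermForm N F q v w = 0 := by
      intro w hw
      unfold hermForm
      refine Finset.sum_eq_zero fun j _ => ?_
      by_cases hj : j = ⟨2 * m, by omega⟩
      · rw [hj, hw, zero_pow_q hF, mul_zero]
      · rw [hv, Pi.single_eq_of_ne hj, zero_mul]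
    refine mem_V0_of_orth W (fun i => ?_) (fun i => ?_)
    · exact key _ (hW i ⟨2 * m, by omega⟩ (by have := i.2; simp only; omega) (by have := i.2; simp only; omega)).1
    · exact key _ (hW i ⟨2 * m, by omega⟩ (by have := i.2; simp only; omega) (by have := i.2; simp only; omega)).2
  have hex : ∀ t : F, ∃ a : (toFrame W).Adm, a.w = t • v ∧ (t = 0 → a.c = 0) := by
    intro t
    by_cases ht : t = 0
    · subst ht
      exact ⟨1, by rw [Frame.Adm.one_w, zero_smul], fun _ => Frame.Adm.one_c⟩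
    · obtain ⟨c, hc⟩ := (PU hF N).ex (t • v)
      exact ⟨⟨t • v, c, W.V0.smul_mem t hv0, hc⟩, rfl, fun h => absurd h ht⟩
  choose g hg hg0 using hex
  intro hc
  have hfin : Finite (toFrame W).Adm := by
    apply Nat.finite_of_card_ne_zero
    rw [← hc]
    exact Nat.card_pos.ne'
  have hinj : Function.Injective g := by
    intro s t hst
    have h1 := congrArg Frame.Adm.w hst
    rw [hg, hg] at h1
    have h2 := congrFun h1 ⟨2 * m, by omega⟩
    simpa [hv] using h2
  have hsurj := (hinj.bijective_of_nat_card_le hc.symm.le).2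
  obtain ⟨t, ht⟩ := hsurj p0
  have h1 : t = 0 := by
    have h2 := congrArg Frame.Adm.w ht
    rw [hg, hpw] at h2
    have h3 := congrFun h2 ⟨2 * m, by omega⟩
    simpa [hv] using h3
  apply hp0
  rw [← ht]
  exact hg0 t h1

theorem pgood_PSU (hF : Fintype.card F = q ^ 2) (hN : 3 ≤ N) (hN2 : ¬ (N = 3 ∧ q = 2)) {p : ℕ} [Fact p.Prime]
    [hc : CharP F p] : PGood.{u} p (Cfsg.PSU N F q) := by
  obtain ⟨m, hm⟩ : ∃ m, N = 2 * m ∨ N = 2 * m + 1 := ⟨N / 2, by omega⟩
  obtain ⟨W, hW⟩ := exists_wframe hF hm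
  obtain ⟨p0, hp0, -⟩ := exists_adm hF W
  have hA := AmbT.of_amb (amb_U hF W) p
  rcases Nat.lt_or_ge m 3 with h3 | h3
  · obtain rfl | rfl : m = 1 ∨ m = 2 := by omega
    · obtain rfl : N = 3 := by omega
      exact pgood_C_one (TitsThree.KInstU.model hF (by omega) W) hA hp0 rfl
        (Or.inr (Or.inl ⟨F, _, _, hc, q, hF, fun h => hN2 ⟨rfl, h⟩, ⟨MulEquiv.refl _⟩⟩))
    · refine pgood_C_card (TitsThree.KInstU.model hF (by omega) W) hA hp0 ?_
      rcases hm with hm | hm
      · exact card_adm_even hF W hW hm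
      · exact card_adm_odd hF W hW hm
  · exact pgood_C (TitsThree.KInstU.model hF (by omega) W) hA hp0 h3

end Unitary

theorem pgood_PSp {F : Type} [Field F] [Fintype F] {m : ℕ} (hm : 2 ≤ m) {p : ℕ}
    [hp : Fact p.Prime] [hc : CharP F p] (h3 : m = 2 → 3 ≤ Fintype.card F) : PGood.{u} p (Cfsg.PSp m F) := by
  rcases Nat.lt_or_ge m 3 with h | h
  · obtain rfl : m = 2 := by omega
    refine pgood_C_two (TitsThree.KInstSp.model 2 F) (AmbT.of_amb amb_Sp p) (p0 := TitsThree.SpIdent.adm 1) one_ne_zero rfl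
      fun hp2 => ?_
    subst hp2
    refine Or.inr (Or.inl ⟨F, inferInstance, inferInstance, hc, ?_, ⟨MulEquiv.refl _⟩⟩)
    have h3' := h3 rfl
    obtain ⟨n, -, hn⟩ := FiniteField.card F 2
    rw [hn] at h3' ⊢
    have h4 : (n : ℕ) ≠ 1 := by
      intro h
      rw [h] at h3'
      norm_num at h3'
    have h5 : 2 ≤ (n : ℕ) := by have := n.pos; omega
    calc 4 = 2 ^ 2 := by norm_num
      _ ≤ 2 ^ (n : ℕ) := Nat.pow_le_pow_right (by norm_num) h5
  · exact pgood_C (TitsThree.KInstSp.model m F) (AmbT.of_amb amb_Sp p) (p0 := TitsThree.SpIdent.adm 1) one_ne_zero h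

end Witt

section Orthogonal

open QuadraticMap
open Cfsg.Agent.LieClassical Cfsg.Agent.LieClassical.OrthCore Cfsg.Agent.LieClassical.OrthTrans
open Cfsg.Agent.LieClassical.OrthSimple Cfsg.Agent.LieClassical.OrthFinite
open Cfsg.Agent.LieClassical.OrthForms
open Cfsg.Agent.TitsThree.KSideO Cfsg.Agent.TitsThree.StdData
open Cfsg.Agent.Nodes Cfsg.Agent.Nodes.WittAll Cfsg.Agent.Nodes.WittU Cfsg.Agent.Nodes.WittInst
  Cfsg.Agent.TitsThree.Siegel Cfsg.Agent.TitsThree.SiegelGen
  Cfsg.Agent.TitsThree.WittFrame Cfsg.Agent.TitsThree.WBridge Cfsg.Agent.TitsThree.WittWeyl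
  Cfsg.Agent.TitsThree.FrameCN

variable {F : Type*} [Field F] {m : ℕ}

theorem pgood_PO_odd [Finite F] (h2 : (2 : F) ≠ 0) (hm : 3 ≤ m) {p : ℕ} [Fact p.Prime] [CharP F p] :
    PGood.{u} p (Cfsg.POmega F (Cfsg.quadFormOdd m F)) := by
  rw [← coe_oddForm]
  have hG : _root_.Cfsg.Agent.LieClassical.OrthTrans.Good (oddForm m F) := by
    apply good_of_finite (nondeg_oddForm m F h2)
    rw [Module.finrank_fintype_fun_eq_card, Fintype.card_sum, Fintype.card_sum, Fintype.card_fin,
      Fintype.card_unit]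
    omega
  have hp : ((embOdd m F).ngt ⟨1, -1 ^ 2, rfl⟩).c ≠ 0 := by
    change (1 : F)⁻¹ * (-1 ^ 2) ≠ 0
    simp
  exact pgood_C (model (wodd m F) hG ⟨_, hp⟩) (AmbT.of_amb (amb_O_of_two _ h2) p) hp hm

theorem pgood_PO_minus [Finite F] {a b : F} (hab : ∀ z₁ z₂ : F, z₁ ^ 2 + a * z₁ * z₂ + b * z₂ ^ 2 = 0 → z₁ = 0 ∧ z₂ = 0)
    (hm : 3 ≤ m) {p : ℕ} [Fact p.Prime] [CharP F p] :
    PGood.{u} p (Cfsg.POmega F (Cfsg.quadFormMinus m F a b)) := by
  rw [← coe_minusForm]
  have hG : _root_.Cfsg.Agent.LieClassical.OrthTrans.Good (minusForm m F a b) := by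
    apply good_of_finite (nondeg_minusForm m F a b hab)
    rw [Module.finrank_fintype_fun_eq_card, Fintype.card_sum, Fintype.card_sum, Fintype.card_fin,
      Fintype.card_fin]
    omega
  have hp : ((embMinus m F a b hab).ngt ⟨(1, 0), -nf a b (1, 0), rfl⟩).c ≠ 0 := by
    change (1 : F)⁻¹ * (-nf a b (1, 0)) ≠ 0
    simp [nf]
  have hA : AmbT (toFrame (wminus m F a b hab)) p (E (minusForm m F a b)) := by
    by_cases h2 : (2 : F) = 0
    · have hp2 : p = 2 := by
        have h3 : CharP F 2 := CharTwo.of_one_ne_zero_of_two_eq_zero one_ne_zero h2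
        exact CharP.eq F ‹CharP F p› h3
      subst hp2
      exact ambT_O _ fun g hg hg2 hb => fixp_minus a b hab h2 (by omega) hG hg hg2 hb
    · exact AmbT.of_amb (amb_O_of_two _ h2) p
  exact pgood_C (model (wminus m F a b hab) hG ⟨_, hp⟩) hA hp hm

theorem pgood_PO_plus [Finite F] (n : ℕ) {p : ℕ} [Fact p.Prime] [CharP F p] :
    PGood.{u} p (Cfsg.POmega F (Cfsg.quadFormPlus (n + 4) F)) := by
  rw [← coe_plusForm]
  have hG : _root_.Cfsg.Agent.LieClassical.OrthTrans.Good (plusForm (n + 4) F) := by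
    apply good_of_finite (nondeg_plusForm (n + 4) F)
    rw [Module.finrank_fintype_fun_eq_card, Fintype.card_sum, Fintype.card_fin]
    omega
  have hWf : Finite (Nodes.TypeD.M (n + 2)).Group := Nodes.TypeD.finite_W (Nodes.TypeD.M (n + 2)).toCoxeterSystem
  exact rgd_val (rgdD_model (wplus (n + 4) F) hG (amb_plus _) (adm_plus _) (Nodes.TypeD.M (n + 2)).toCoxeterSystem)
    (G1D_eq_top (wplus (n + 4) F) (toPOmega hG) (toPOmega_surjective hG) (adm_plus _) _) (val_D n)

end Orthogonal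

/-! ### Exceptional and twisted groups of rank at least three -/

section Exc

open Cfsg.Lie Cfsg.Agent.ChevalleyStructure Cfsg.Agent.ChevalleyStructure.Elts
open Cfsg.Agent.Nodes.RGDChev

theorem pgood_chev {D : ChevalleyDatum} {l : ℕ} {M : CoxeterMatrix (Fin l)} (hp : IsType D l M) {K : Type} [Field K]
    [Finite K] (p : ℕ) [CharP K p] {i j : Fin l} (hv : val M i ≠ val M j) : PGood.{u} p ↥(D.group K) := by
  have : Fact p.Prime := ⟨CharP.char_is_prime K p⟩
  have : Finite M.Group := finite_W hp M.toCoxeterSystem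
  exact rgd_val (rgd (K := K) hp M.toCoxeterSystem p) (G1_eq_top hp _) hv

theorem pgood_twE6 {K : Type} [Field K] [Fintype K] {q : ℕ} (hq : IsPrimePow q) (hK : Fintype.card K = q ^ 2)
    (p : ℕ) [CharP K p] : PGood.{u} p ↥(Lie.twistedE6 K q) := by
  have : Fact p.Prime := ⟨CharP.char_is_prime K p⟩
  obtain ⟨φ, hφ, hqq⟩ := ChevalleyStructure.TwE6Basic.exists_frob hq hK
  have : Finite CoxeterMatrix.F₄.Group := Nodes.RGDFold.finite_W (hp := Nodes.RGDTwE6.hp) CoxeterMatrix.F₄.toCoxeterSystem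
    Nodes.RGDTwE6.isCartan Nodes.RGDTwE6.foldData
  exact rgd_val (Nodes.RGDTwE6.rgd CoxeterMatrix.F₄.toCoxeterSystem hφ hqq p)
    (Nodes.RGDTwE6.G1_eq_top CoxeterMatrix.F₄.toCoxeterSystem hφ hqq)
    (i := 0) (j := 1) (by decide +kernel)

theorem pgood_twD4 {K : Type} [Field K] [Fintype K] {q : ℕ} (hq : IsPrimePow q) (hK : Fintype.card K = q ^ 3)
    (p : ℕ) [CharP K p] : PGood.{u} p ↥(Lie.twistedD4 K q) := by
  have : Fact p.Prime := ⟨CharP.char_is_prime K p⟩
  obtain ⟨φ, hφ⟩ := ChevalleyStructure.D4Fixed.exists_frob hq hK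
  have : Finite CoxeterMatrix.G₂.Group := Nodes.RGDFold.finite_W (hp := Nodes.RGDTwD4.hp) CoxeterMatrix.G₂.toCoxeterSystem
    Nodes.RGDTwD4.isCartan Nodes.RGDTwD4.foldData
  exact rgd_card (Nodes.RGDTwD4.rgd CoxeterMatrix.G₂.toCoxeterSystem hK hφ p)
    (Nodes.RGDTwD4.G1_eq_top CoxeterMatrix.G₂.toCoxeterSystem hK hφ)
    (i := 1) (j := 0) (KFacts.TwDFour.Out.card_ne hφ hK hq.one_lt)

open Cfsg.Agent.KFacts.RgdAut Cfsg.Agent.KFacts.RgdDiag

theorem hG2 : IsType chevG2 2 CoxeterMatrix.G₂ := by simp [IsType, typeList]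

theorem comm_6_11 {K : Type u} [Field K] (t u : K) :
    xG hG2.inList 11 u * xG hG2.inList 6 t = xG hG2.inList 6 t * xG hG2.inList 11 u := by
  have h := UnipProd.xG_comm hG2.inList (F := K) (r := 6) (s := 11) (by decide +kernel) (by decide +kernel)
    (by decide) (by decide +kernel) t u
  have h2 : chevG2.commWord K 6 11 t u = [] := by
    show (chevG2.commTerms 6 11).map _ = []
    have h3 : chevG2.commTerms 6 11 = [] := by decide +kernel
    rw [h3, List.map_nil]
  rw [h2] at h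
  rw [h]
  exact mul_one _

theorem ncomm_7_9 {K : Type u} [Field K] [CharP K 2] :
    xG hG2.inList 9 (1 : K) * xG hG2.inList 7 1 ≠ xG hG2.inList 7 (1 : K) * xG hG2.inList 9 1 := by
  intro hc
  have h := UnipProd.xG_comm hG2.inList (F := K) (r := 7) (s := 9) (by decide +kernel) (by decide +kernel)
    (by decide) (by decide +kernel) 1 1
  rw [hc] at h
  have h1 := left_eq_mul.1 h
  have h3 : chevG2.commTerms 7 9 = [(10, 3, 1, 1)] := by decide +kernel
  have h2 : chevG2.commWord K 7 9 1 1 = [(10, ((3 : ℤ) : K) * (-1) ^ 1 * 1 ^ 1)] := by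
    show (chevG2.commTerms 7 9).map _ = _
    rw [h3]
    rfl
  rw [h2, wordG_cons, wordG_nil, mul_one, xG_eq_one_iff hG2.inList (r := 10) (by decide +kernel)] at h1
  have h4 : ((3 : ℤ) : K) = 1 := by
    have : (2 : K) = 0 := CharTwo.two_eq_zero
    push_cast
    linear_combination this
  rw [h4] at h1
  simp at h1

theorem g2_sep {K : Type u} [Field K] [Finite K] [CharP K 2] {β : MulAut ↥(chevG2.group K)} {σ : Equiv.Perm (Fin 2)}
    (D : _root_.Cfsg.Agent.KFacts.RgdDiag.Diag ((chevG2.diagonalSubgroup K).subgroupOf (chevG2.group K))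
      (fun x => (XV chevG2 2 K x).subgroupOf (chevG2.group K)) β σ) : σ 0 ≠ 1 := by
  have hp2 : Fact (Nat.Prime 2) := ⟨Nat.prime_two⟩
  have hW : Finite CoxeterMatrix.G₂.Group := finite_W hG2 CoxeterMatrix.G₂.toCoxeterSystem
  have R := rgd (K := K) hG2 CoxeterMatrix.G₂.toCoxeterSystem 2
  intro hσ
  have hσ1 : σ 1 = 0 := by
    have h1 : σ 1 ≠ 1 := fun h => by
      have := σ.injective (h.trans hσ.symm)
      exact absurd this (by decide)
    revert h1
    generalize σ 1 = a
    revert a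
    decide
  set cs := CoxeterMatrix.G₂.toCoxeterSystem with hcs
  have hM := D.matrix R
  have e1 : rep cs hG2.isCartan (cs.simple 0 * cs.simple 1) (sr 0) = vec chevG2 2 9 := by
    rw [rep_mul_apply, ← vec_simple hG2, rep_vec hG2 cs, rep_vec hG2 cs]
    · congr 1
    · decide +kernel
    · decide +kernel
  have e2 : rep cs hG2.isCartan (cs.simple 1 * cs.simple 0) (sr 1) = vec chevG2 2 11 := by
    rw [rep_mul_apply, ← vec_simple hG2, rep_vec hG2 cs, rep_vec hG2 cs]
    · congr 1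
    · decide +kernel
    · decide +kernel
  have e3 : hat cs σ hM (cs.simple 0 * cs.simple 1) = cs.simple 1 * cs.simple 0 := by
    rw [map_mul, hat_simple, hat_simple, hσ, hσ1]
  have k1 := fun x => D.root R hM (cs.simple 0 * cs.simple 1) 0 x
  rw [e3, e1, hσ, e2] at k1
  have hx : (⟨xG hG2.inList 7 (1 : K), xG_mem_group hG2.inList _ _⟩ : ↥(chevG2.group K)) ∈
      (XV chevG2 2 K (sr 0)).subgroupOf (chevG2.group K) := by
    rw [Subgroup.mem_subgroupOf, XV_sr hG2]
    exact xG_mem_rootSubgroup hG2.inList _ _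
  have hy : (⟨xG hG2.inList 9 (1 : K), xG_mem_group hG2.inList _ _⟩ : ↥(chevG2.group K)) ∈
      (XV chevG2 2 K (vec chevG2 2 9)).subgroupOf (chevG2.group K) := by
    rw [Subgroup.mem_subgroupOf, XV_vec hG2 K (by decide +kernel)]
    exact xG_mem_rootSubgroup hG2.inList _ _
  have hx' := (D.pos 0 _).2 hx
  rw [hσ, Subgroup.mem_subgroupOf, XV_sr hG2, mem_rootSubgroup_iff hG2.inList] at hx'
  have hy' := (k1 _).2 hy
  rw [Subgroup.mem_subgroupOf, XV_vec hG2 K (by decide +kernel), mem_rootSubgroup_iff hG2.inList] at hy'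
  obtain ⟨t, ht⟩ := hx'
  obtain ⟨u, hu⟩ := hy'
  refine ncomm_7_9 (K := K) ?_
  have h1 : ∀ a b : ↥(chevG2.group K), β a * β b = β b * β a → a.1 * b.1 = b.1 * a.1 := by
    intro a b h
    rw [← map_mul, ← map_mul] at h
    exact congrArg Subtype.val (β.injective h)
  refine h1 ⟨xG hG2.inList 9 (1 : K), xG_mem_group hG2.inList _ _⟩ ⟨xG hG2.inList 7 (1 : K), xG_mem_group hG2.inList _ _⟩
    (Subtype.ext ?_)
  rw [Subgroup.coe_mul, Subgroup.coe_mul, ht, hu]
  exact comm_6_11 t u


theorem pgood_G2 {K : Type} [Field K] [Finite K] (p : ℕ) [CharP K p] : PGood.{u} p ↥(chevG2.group K) := by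
  have : Fact p.Prime := ⟨CharP.char_is_prime K p⟩
  have : Finite CoxeterMatrix.G₂.Group := finite_W hG2 CoxeterMatrix.G₂.toCoxeterSystem
  refine rgd_rankTwo_sep (rgd (K := K) hG2 CoxeterMatrix.G₂.toCoxeterSystem p) (G1_eq_top hG2 _) (i := 0) (j := 1)
    (by decide) (by decide) fun hp β σ D => ?_
  subst hp
  exact g2_sep D

theorem pgood_exc {p : ℕ} {G : Type v} [Group G] (hG : IsExceptionalChevChar p G) : PGood.{u} p G := by
  obtain ⟨F, _, _, _, ⟨-, ⟨e⟩⟩ | ⟨⟨e⟩⟩ | ⟨⟨e⟩⟩ | ⟨⟨e⟩⟩ | ⟨⟨e⟩⟩⟩ := hG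
  · exact (pgood_G2 (K := F) p).congr e.symm
  · exact (pgood_chev (D := chevF4) (l := 4) (M := CoxeterMatrix.F₄) (by simp [IsType, typeList]) (K := F) p
      (i := 0) (j := 1) (by decide +kernel)).congr e.symm
  · exact (pgood_chev (D := chevE6) (l := 6) (M := CoxeterMatrix.E₆) (by simp [IsType, typeList]) (K := F) p
      (i := 0) (j := 3) (by decide +kernel)).congr e.symm
  · exact (pgood_chev (D := chevE7) (l := 7) (M := CoxeterMatrix.E₇) (by simp [IsType, typeList]) (K := F) p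
      (i := 0) (j := 3) (by decide +kernel)).congr e.symm
  · exact (pgood_chev (D := chevE8) (l := 8) (M := CoxeterMatrix.E₈) (by simp [IsType, typeList]) (K := F) p
      (i := 0) (j := 3) (by decide +kernel)).congr e.symm

theorem pgood_tw {p : ℕ} {G : Type v} [Group G] (hG : IsTwistedE6D4Char p G) : PGood.{u} p G := by
  obtain ⟨K, _, _, _, q, hq, ⟨hK, ⟨e⟩⟩ | ⟨hK, ⟨e⟩⟩⟩ := hG
  · exact (pgood_twE6 hq hK p).congr e.symm
  · exact (pgood_twD4 hq hK p).congr e.symm

end Exc

/-- **The families with a root group datum** -/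
theorem pgood_lie {p : ℕ} (hp : p.Prime) {G : Type v} [Group G] (h : IsLieTypeChar p G)
    (hSz : p = 2 → Lie.IsoSuzuki G → PGood.{u} p G) (hF : p = 2 → Lie.Iso2F4 G → PGood.{u} p G)
    (hR : p = 3 → Lie.IsoRee G → PGood.{u} p G) : PGood.{u} p G := by
  have hpf : Fact p.Prime := ⟨hp⟩
  rcases h with h | h | h | h | h | h | h | h | ⟨hp, h⟩ | ⟨hp, h⟩ | ⟨hp, h⟩
  · obtain ⟨F, _, _, _, n, hn, h4, ⟨e⟩⟩ := h
    exact (pgood_PSL n hn h4).congr e.symm
  · obtain ⟨F, _, _, _, m, hm, h3, ⟨e⟩⟩ := h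
    exact (pgood_PSp hm h3).congr e.symm
  · obtain ⟨F, _, _, _, n, q, hF, hn, h3, ⟨e⟩⟩ := h
    exact (pgood_PSU hF hn h3).congr e.symm
  · obtain ⟨F, _, _, _, m, hm, hodd, ⟨e⟩⟩ := h
    have h20 : (2 : F) ≠ 0 := by
      intro h20
      have h3 : CharP F 2 := CharTwo.of_one_ne_zero_of_two_eq_zero one_ne_zero h20
      obtain ⟨n, -, hn⟩ := FiniteField.card F 2
      rw [hn] at hodd
      exact absurd hodd (by
        rw [Nat.not_odd_iff_even]
        exact even_two.pow_of_ne_zero n.ne_zero)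
    exact (pgood_PO_odd h20 hm).congr e.symm
  · obtain ⟨F, _, _, _, m, hm, ⟨e⟩⟩ := h
    obtain ⟨n, rfl⟩ : ∃ n, m = n + 4 := ⟨m - 4, by omega⟩
    exact (pgood_PO_plus n).congr e.symm
  · obtain ⟨F, _, _, _, m, a, b, hm, hab, ⟨e⟩⟩ := h
    exact (pgood_PO_minus hab (by omega)).congr e.symm
  · exact pgood_exc h
  · exact pgood_tw h
  · exact hSz hp h
  · exact hF hp h
  · exact hR hp h

end Cfsg.Agent.H223.PMinFam
end

-- part: H223/PMinU33
section
set_option autoImplicit false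
set_option linter.style.haveILetI false
set_option linter.unusedSectionVars false

/-!
# p-minimal groups: `U₃(3) = G₂(2)'`
-/

namespace Cfsg.Agent.H223.PMinU33

open Subgroup Cfsg Cfsg.Agent.H223.PMinSys Cfsg.Agent.H223.PMinGood Cfsg.Agent.H223.PMinTwo Cfsg.Agent.H223.PMinTits
open CoxeterSystem Cfsg.Agent.ChevalleyStructure.CoxeterGeom Cfsg.Agent.Tits.Roots Cfsg.Agent.Tits.Core
  Cfsg.Agent.Tits.RootComb Cfsg.Agent.Nodes.Comb Cfsg.Agent.Nodes.Reps Cfsg.Agent.Nodes.BNOf Cfsg.Agent.FixBN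
open Cfsg.Lie Cfsg.Agent.ChevalleyStructure Cfsg.Agent.ChevalleyStructure.Elts
open Cfsg.Agent.Nodes.RGDChev Cfsg.Agent.Nodes.LeviDec

universe u v w

/-- the order of a Sylow subgroup -/
theorem card_of_index {G : Type*} [Group G] [Finite G] {p : ℕ} [hp : Fact p.Prime] {U : Subgroup G} (hU : IsPGroup p U)
    (hi : ¬ p ∣ U.index) {a m : ℕ} (hG : Nat.card G = p ^ a * m) (hm : ¬ p ∣ m) : Nat.card U = p ^ a := by
  have h1 : Nat.card (hU.toSylow hi) = p ^ (Nat.card G).factorization p := Sylow.card_eq_multiplicity _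
  have hm0 : m ≠ 0 := by
    rintro rfl
    exact hm (dvd_zero p)
  rw [hG, Nat.factorization_mul (pow_ne_zero _ hp.1.ne_zero) hm0, Finsupp.add_apply, hp.1.factorization_pow,
    Finsupp.single_eq_same, Nat.factorization_eq_zero_of_not_dvd hm, add_zero] at h1
  exact h1

/-- `G₂(2)` -/
abbrev MM : Type := ↥(Lie.chevG2.group (ZMod 2))

abbrev F9 : Type := Cfsg.Agent.ChevalleyStructure.NineField.F9

theorem card_F9 : Fintype.card F9 = 3 ^ 2 := Cfsg.Agent.ChevalleyStructure.NineField.F9.card_F9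

theorem card_MM : Nat.card MM = 12096 := by
  have := Cfsg.Agent.S1059.result (F := ZMod 2) (q := 2) (ZMod.card 2)
  rw [this]
  norm_num

theorem exists_psu : Nonempty (↥(_root_.commutator MM) ≃* PSU 3 F9 3) :=
  Cfsg.Agent.S1057.result (F := ZMod 2) (K := F9) (ZMod.card 2) card_F9

theorem card_comm : Nat.card ↥(_root_.commutator MM) = 6048 := by
  obtain ⟨e⟩ := exists_psu
  have h := Cfsg.Agent.S0280.result (F := F9) (q := 3) card_F9 3 (by norm_num)
  rw [Nat.card_congr e.toEquiv]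
  rw [Finset.prod_range_succ, Finset.prod_range_succ, Finset.prod_range_succ, Finset.prod_range_zero] at h
  norm_num only [_root_.one_mul, _root_.ite_true, _root_.ite_false] at h
  omega

theorem index_comm : (_root_.commutator MM).index = 2 := by
  have h := Subgroup.card_mul_index (commutator MM)
  rw [card_MM, card_comm] at h
  omega

private theorem sub_aut {G H : Type} [Group G] [Group H] {K : Subgroup G} (e : K ≃* H) :
    Nat.card (MulAut K) = Nat.card (MulAut H) := Nat.card_congr (MulAut.congr e).toEquiv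

private theorem sub_simple {G H : Type} [Group G] [Group H] {K : Subgroup G} [IsSimpleGroup H] (e : K ≃* H) :
    IsSimpleGroup K := e.isSimpleGroup

private theorem sub_good {G : Type} {H : Type v} [Group G] [Group H] {K : Subgroup G} (h : PGood.{u} 2 K) (e : K ≃* H) :
    PGood.{u} 2 H := h.congr e

theorem card_mulAut : Nat.card (MulAut ↥(_root_.commutator MM)) = 12096 := by
  obtain ⟨e⟩ := exists_psu
  have : Fact (Nat.Prime 3) := ⟨Nat.prime_three⟩
  rw [sub_aut e]
  have h := S0815.result (F := F9) 3 1 le_rfl (by norm_num : (3 : ℕ) = 3 ^ 1) card_F9 3 le_rfl (by norm_num)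
  rw [h, ← Nat.card_congr e.toEquiv, card_comm]
  norm_num

theorem simple_comm : IsSimpleGroup ↥(_root_.commutator MM) := by
  obtain ⟨e⟩ := exists_psu
  have := S0283.result card_F9 3 le_rfl (by norm_num)
  exact sub_simple e

theorem center_of_card {G : Type*} [Group G] [Finite G] [hs : IsSimpleGroup G] (h : ¬ (Nat.card G).Prime) :
    center G = ⊥ := by
  rcases (inferInstance : (center G).Normal).eq_bot_or_eq_top with h1 | h1
  · exact h1
  · exfalso
    apply h
    letI : CommGroup G := { (inferInstance : Group G) with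
      mul_comm := fun a b => (Subgroup.mem_center_iff.1 (h1 ▸ Subgroup.mem_top a : a ∈ center G) b).symm }
    exact IsSimpleGroup.prime_card

theorem center_comm : center ↥(_root_.commutator MM) = ⊥ := by
  have := simple_comm
  have : Finite ↥(_root_.commutator MM) := Nat.finite_of_card_ne_zero (by rw [card_comm]; norm_num)
  refine center_of_card ?_
  rw [card_comm]
  norm_num

theorem pgood_MM : PGood.{u} 2 ↥(_root_.commutator MM) := by
  have hp2 : Fact (Nat.Prime 2) := ⟨Nat.prime_two⟩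
  have hp3 : Fact (Nat.Prime 3) := ⟨Nat.prime_three⟩
  have hfin : Finite MM := Nat.finite_of_card_ne_zero (by rw [card_MM]; norm_num)
  have hs' : IsSimpleGroup (commutator MM) := simple_comm
  have hcK : center ↥(_root_.commutator MM) = ⊥ := center_comm
  have hZ : center MM = ⊥ := S1077.center_group_eq_bot (by simp [InList])
  have hA : Nat.card (MulAut (commutator MM)) = 12096 := card_mulAut
  have hW : Finite CoxeterMatrix.G₂.Group := finite_W PMinFam.hG2 CoxeterMatrix.G₂.toCoxeterSystem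
  have R := rgd (K := ZMod 2) PMinFam.hG2 CoxeterMatrix.G₂.toCoxeterSystem 2
  have hG1 := G1_eq_top (K := ZMod 2) PMinFam.hG2 CoxeterMatrix.G₂.toCoxeterSystem
  have hB := KFacts.RgdAut.normalizer_U' R (KFacts.RgdFilt.GG_eq_top hG1)
  set! Z := PMinRgd.psys R hG1 with hZ'
  have hU : Nat.card Z.U = 2 ^ 6 := card_of_index Z.isP Z.idx (m := 189) (by rw [card_MM]; norm_num) (by norm_num)
  have hUC : Z.U ⊔ _root_.commutator MM = ⊤ := by
    rw [← Subgroup.index_eq_one]
    have h1 : (Z.U ⊔ _root_.commutator MM).index ∣ 2 :=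
      (Subgroup.index_dvd_of_le le_sup_right).trans index_comm.dvd
    rcases (Nat.dvd_prime Nat.prime_two).1 h1 with h | h
    · exact h
    · exfalso
      apply Z.idx
      exact h.symm.dvd.trans (Subgroup.index_dvd_of_le le_sup_left)
  have hle : ∀ J, Z.U ≤ (Z.e J : Subgroup MM) := fun J => le_trans le_normalizer (Z.e J).2
  have htop : ((Z.e Set.univ : {Q : Subgroup MM // normalizer (Z.U : Set MM) ≤ Q}) : Subgroup MM) = ⊤ := by
    have : (⟨⊤, le_top⟩ : {Q : Subgroup MM // normalizer (Z.U : Set MM) ≤ Q}) ≤ Z.e ⊤ := by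
      rw [← Z.e.symm_apply_le]
      exact le_top
    exact top_le_iff.1 this
  have hne : ∀ J, J ≠ Set.univ → (Z.e J : Subgroup MM) ≠ ⊤ := by
    intro J hJ h
    apply hJ
    apply Z.e.injective
    apply Subtype.ext
    rw [h, htop]
  refine pgood_of_index_two (U := Z.U) (P := Z.e {0}) (Q := Z.e {1}) (a := 6) index_comm hZ hs' hcK hU ?_ ?_
    (hle _) (hle _) hUC (hne _ ?_) (hne _ ?_) ?_
  · rw [hA]; norm_num
  · rw [card_comm]; norm_num
  · intro h
    have : (1 : Fin 2) ∈ ({0} : Set (Fin 2)) := by rw [h]; trivial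
    exact absurd this (by simp)
  · intro h
    have : (0 : Fin 2) ∈ ({1} : Set (Fin 2)) := by rw [h]; trivial
    exact absurd this (by simp)
  · have h1 : normalizer (Z.U : Set MM) ≤ (Z.e {0} : Subgroup MM) ⊔ Z.e {1} := le_trans (Z.e {0}).2 le_sup_left
    obtain ⟨J, hJ⟩ := Z.e.surjective ⟨_, h1⟩
    have hJ' : (Z.e J : Subgroup MM) = (Z.e {0} : Subgroup MM) ⊔ Z.e {1} := congrArg Subtype.val hJ
    have h2 : {0} ⊆ J := Z.e.le_iff_le.1 (show (Z.e {0} : Subgroup MM) ≤ Z.e J by rw [hJ']; exact le_sup_left)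
    have h3 : {1} ⊆ J := Z.e.le_iff_le.1 (show (Z.e {1} : Subgroup MM) ≤ Z.e J by rw [hJ']; exact le_sup_right)
    have h4 : J = Set.univ := by
      rw [Set.eq_univ_iff_forall]
      intro i
      have : i = 0 ∨ i = 1 := by revert i; decide
      rcases this with rfl | rfl
      · exact h2 rfl
      · exact h3 rfl
    rw [← hJ', h4, htop]

theorem pgood_U33 {F : Type} [Field F] [Fintype F] (hF : Fintype.card F = 9) {G : Type v} [Group G]
    (e : G ≃* PSU 3 F 3) : PGood.{u} 2 G := by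
  obtain ⟨e'⟩ := S1057.result (F := ZMod 2) (K := F) (ZMod.card 2) hF
  exact sub_good pgood_MM (e'.trans e.symm)

end Cfsg.Agent.H223.PMinU33
end

-- part: H223/PMinEight
section
set_option autoImplicit false
set_option linter.style.haveILetI false
set_option linter.unusedSectionVars false

/-!
# p-minimal groups: `L₂(8) = ²G₂(3)'` and `A₆ = Sp₄(2)'`
-/

namespace Cfsg.Agent.H223.PMinEight

open Subgroup Cfsg Cfsg.Agent.H223.PMinSys Cfsg.Agent.H223.PMinGood

universe u v w

section psys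

variable {p : ℕ} {Y : Type v} [Group Y] {ι : Type w}

/-- the parabolic subgroup of a set of nodes -/
def par (U : Subgroup Y) (P : ι → Subgroup Y) (J : Set ι) : Subgroup Y :=
  normalizer (U : Set Y) ⊔ ⨆ (i : ι) (_ : i ∈ J), P i

theorem par_mono (U : Subgroup Y) (P : ι → Subgroup Y) {J J' : Set ι} (h : J ⊆ J') : par U P J ≤ par U P J' := by
  unfold par
  refine sup_le_sup_left ?_ _
  refine iSup₂_le ?_
  intro i hi
  exact le_iSup₂_of_le (f := fun (i : ι) (_ : i ∈ J') => P i) i (h hi) le_rfl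

theorem le_par (U : Subgroup Y) (P : ι → Subgroup Y) {J : Set ι} {i : ι} (h : i ∈ J) : P i ≤ par U P J := by
  unfold par
  refine le_sup_of_le_right ?_
  exact le_iSup₂_of_le (f := fun (i : ι) (_ : i ∈ J) => P i) i h le_rfl

/-- a parabolic system from its minimal parabolics -/
def psysOf (U : Subgroup Y) (hU : IsPGroup p U) (hi : ¬ p ∣ U.index) (P : ι → Subgroup Y)
    (ha : ∀ Q : Subgroup Y, normalizer (U : Set Y) ≤ Q → Q ≤ par U P {i | P i ≤ Q})
    (hb : ∀ i, ¬ P i ≤ par U P {j | j ≠ i}) : PSys p Y ι where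
  U := U
  isP := hU
  idx := hi
  e :=
    have key : ∀ (J : Set ι) (i : ι), P i ≤ par U P J → i ∈ J := by
      intro J i h
      by_contra hJ
      exact hb i (h.trans (par_mono U P fun j hj hji => hJ (hji ▸ hj)))
    { toFun := fun J => ⟨par U P J, le_sup_left⟩
      invFun := fun Q => {i | P i ≤ Q.1}
      left_inv := fun J => Set.ext fun i => ⟨fun h => key J i h, fun h => le_par U P h⟩
      right_inv := fun Q => Subtype.ext (le_antisymm (sup_le Q.2 (iSup₂_le fun i hi => hi)) (ha Q.1 Q.2))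
      map_rel_iff' := @fun J J' => ⟨fun h i hi => key J' i (le_trans (le_par U P hi) h), fun h => par_mono U P h⟩ }

/-- `N(U)` maximal -/
theorem exists_psys_unit {U : Subgroup Y} (hU : IsPGroup p U) (hi : ¬ p ∣ U.index)
    (hc : IsCoatom (normalizer (U : Set Y))) : Nonempty (PSys p Y Unit) := by
  refine ⟨psysOf U hU hi (fun _ => ⊤) ?_ ?_⟩
  · intro Q hQ
    rcases eq_or_lt_of_le hQ with h | h
    · exact h.ge.trans le_sup_left
    · have h1 := hc.2 Q h
      rw [h1]
      exact le_par U (fun _ : Unit => ⊤) (i := ()) (le_refl (⊤ : Subgroup Y))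
  · intro i h
    apply hc.1
    rw [eq_top_iff]
    refine h.trans (sup_le le_rfl (iSup₂_le fun j hj => ?_))
    exact absurd rfl hj

end psys

section eight

variable {G : Type v} [Group G] [Finite G] [IsSimpleGroup G] (hG : Nat.card G = 504)

include hG

theorem index_ne_seven (H : Subgroup G) : H.index ≠ 7 := by
  intro hH
  have hne : H ≠ ⊤ := by rintro rfl; rw [Subgroup.index_top] at hH; omega
  have hnc : ¬ IsMulCommutative G :=
    Cfsg.Agent.Classification.SimpleIndex.not_comm_of_not_prime (by rw [hG]; norm_num)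
  obtain ⟨f, hf⟩ := Cfsg.Agent.S0991.result hnc H hne
  have : Nontrivial (Fin H.index) := Fin.nontrivial_iff_two_le.2 (by omega)
  have h2 : 2 * Nat.card (alternatingGroup (Fin H.index)) = (H.index).factorial := by
    rw [Nat.card_eq_fintype_card, two_mul_card_alternatingGroup, Fintype.card_perm, Fintype.card_fin]
  rw [hH] at h2
  have h3 : Nat.card (alternatingGroup (Fin H.index)) = 2520 := by
    have : Nat.factorial 7 = 5040 := rfl
    rw [← hH] at *
    omega
  have hs : IsSimpleGroup (alternatingGroup (Fin H.index)) := alternatingGroup.isSimpleGroup (by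
    rw [Nat.card_eq_fintype_card, Fintype.card_fin]; omega)
  have h4 : Nat.card f.range = 504 := by
    rw [← hG]
    exact (Nat.card_congr (MonoidHom.ofInjective hf).toEquiv).symm
  have h5 := Subgroup.card_mul_index f.range
  rw [h4, h3] at h5
  have h6 : f.range.index = 5 := by omega
  have h7 := Cfsg.Agent.Involutions.IndexFive.card_dvd_factorial_index f.range (by
    rintro h8
    rw [h8, Subgroup.index_top] at h6
    omega)
  rw [h6, h3] at h7
  exact absurd h7 (by decide)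

theorem index_not_mem {H : Subgroup G} (hne : H ≠ ⊤) : 8 ≤ H.index := by
  have h1 := Cfsg.Agent.Involutions.IndexFive.card_dvd_factorial_index H hne
  rw [hG] at h1
  have h2 := index_ne_seven hG H
  have h0 : H.index ≠ 0 := Subgroup.index_ne_zero_of_finite
  by_contra hlt
  have h3 : H.index ∈ Finset.Icc 1 6 := by rw [Finset.mem_Icc]; omega
  generalize H.index = n at *
  revert h1
  fin_cases h3 <;> decide

theorem isCoatom_normalizer [Fact (Nat.Prime 3)] (S : Sylow 3 G) : IsCoatom (normalizer (S : Set G)) := by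
  have hnc : ¬ IsMulCommutative G :=
    Cfsg.Agent.Classification.SimpleIndex.not_comm_of_not_prime (by rw [hG]; norm_num)
  have hS : Nat.card (S : Subgroup G) = 9 := by
    have h1 : Nat.card S = 3 ^ (Nat.card G).factorization 3 := Sylow.card_eq_multiplicity _
    rw [hG, show (504 : ℕ) = 3 ^ 2 * 56 by norm_num, Nat.factorization_mul (by norm_num) (by norm_num),
      Finsupp.add_apply, Nat.prime_three.factorization_pow, Finsupp.single_eq_same,
      Nat.factorization_eq_zero_of_not_dvd (by norm_num)] at h1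
    exact h1
  have hNne : normalizer (S : Set G) ≠ ⊤ := by
    intro h
    have hn : (S : Subgroup G).Normal := Subgroup.normalizer_eq_top_iff.1 h
    rcases hn.eq_bot_or_eq_top with h | h
    · rw [h, Subgroup.card_bot] at hS
      omega
    · rw [h, Subgroup.card_top, hG] at hS
      omega
  have h1 := S.card_eq_index_normalizer
  have h2 := card_sylow_modEq_one 3 G
  rw [h1] at h2
  have h3 : (normalizer (S : Set G)).index ∣ 56 := by
    have h4 : (normalizer (S : Set G)).index ∣ (S : Subgroup G).index := Subgroup.index_dvd_of_le le_normalizer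
    have h5 := Subgroup.card_mul_index (S : Subgroup G)
    rw [hS, hG] at h5
    have h6 : (S : Subgroup G).index = 56 := by omega
    rwa [h6] at h4
  have h4 := index_not_mem hG hNne
  have h5 : (normalizer (S : Set G)).index = 28 := by
    generalize (normalizer (S : Set G)).index = n at *
    have h6 : n ≤ 56 := Nat.le_of_dvd (by norm_num) h3
    unfold Nat.ModEq at h2
    interval_cases n <;> (clear * - h2 h3; omega)
  refine ⟨hNne, fun Q hQ => ?_⟩
  by_contra hne
  have h6 := Subgroup.relIndex_mul_index hQ.le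
  rw [h5] at h6
  have h7 := index_not_mem hG hne
  have h8 : Q.index = 14 ∨ Q.index = 28 := by
    have h9 : Q.index ∣ 28 := Dvd.intro_left _ h6
    generalize Q.index = n at *
    have h10 : n ≤ 28 := Nat.le_of_dvd (by norm_num) h9
    interval_cases n <;> (clear * - h6; omega)
  rcases h8 with h8 | h8
  · rw [h8] at h6
    have h9 : (normalizer (S : Set G)).relIndex Q = 2 := by omega
    have h10 : ((normalizer (S : Set G)).subgroupOf Q).Normal := Subgroup.normal_of_index_eq_two h9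
    have h11 : Q ≤ normalizer (normalizer (S : Set G) : Set G) :=
      (Subgroup.normal_subgroupOf_iff_le_normalizer hQ.le).1 h10
    have h12 := Sylow.normalizer_normalizer S
    rw [h12] at h11
    exact hQ.not_ge h11
  · rw [h8] at h6
    have h9 : (normalizer (S : Set G)).relIndex Q = 1 := by omega
    exact hQ.not_ge (Subgroup.relIndex_eq_one.1 h9)

end eight

theorem pgood_L28 {F : Type} [Field F] [Fintype F] (hF : Fintype.card F = 8) {G : Type v} [Group G]
    (e : G ≃* Matrix.ProjectiveSpecialLinearGroup (Fin 2) F) : PGood.{u} 3 G := by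
  have hp3 : Fact (Nat.Prime 3) := ⟨Nat.prime_three⟩
  have hs' : IsSimpleGroup (Matrix.ProjectiveSpecialLinearGroup (Fin 2) F) :=
    Cfsg.Agent.TwoFusion.SLTwoFacts.isSimpleGroup_psl (by omega)
  have hs : IsSimpleGroup G := e.isSimpleGroup
  have hfin : Finite G := Finite.of_equiv _ e.symm.toEquiv
  have hG : Nat.card G = 504 := by
    rw [Nat.card_congr e.toEquiv, Cfsg.Agent.SmallSimple.PSLTwoPart.card_psl_two_even (by rw [hF]; decide), hF]
    norm_num
  obtain ⟨S⟩ : Nonempty (Sylow 3 G) := inferInstance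
  obtain ⟨Z⟩ := exists_psys_unit S.isPGroup' S.not_dvd_index (isCoatom_normalizer hG S)
  exact pgood_of_rankOne Z (Or.inr (Or.inr (Or.inr ⟨rfl, Or.inr ⟨F, _, _, hF, ⟨e⟩⟩⟩)))

end Cfsg.Agent.H223.PMinEight
end

-- part: H223/PMinSix
section
set_option autoImplicit false
set_option linter.style.haveILetI false
set_option linter.unusedSectionVars false
set_option maxRecDepth 100000

/-!
# p-minimal groups: `A₆ = Sp₄(2)'`
-/

namespace Cfsg.Agent.H223.PMinSix

open Subgroup Cfsg Cfsg.Agent.H223.PMinSys Cfsg.Agent.H223.PMinGood Cfsg.Agent.H223.PMinEight Equiv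

universe u v w

abbrev S6 : Type := Perm (Fin 6)

/-- `(01)` and `(01)(23)(45)` -/
def t : Bool → S6
  | false => swap (0 : Fin 6) 1
  | true => swap (0 : Fin 6) 1 * swap (2 : Fin 6) 3 * swap (4 : Fin 6) 5

def mm (b : Bool) (g : S6) : Bool := decide (g * t b = t b * g)

/-- in one, not in both -/
def TT (g : S6) : Bool := (mm false g) != (mm true g)

def u1 : S6 := swap (2 : Fin 6) 3 * swap (4 : Fin 6) 5
def u2 : S6 := swap (2 : Fin 6) 4 * swap (3 : Fin 6) 5
def u3 : S6 := swap (2 : Fin 6) 5 * swap (3 : Fin 6) 4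
def u4 : S6 := swap (0 : Fin 6) 1 * swap (4 : Fin 6) 5

theorem mem_u : ((mm false u1 = true ∧ mm true u1 = true ∧ Perm.sign u1 = 1) ∧
    (mm false u2 = true ∧ mm true u2 = true ∧ Perm.sign u2 = 1)) ∧
    ((mm false u3 = true ∧ mm true u3 = true ∧ Perm.sign u3 = 1) ∧
    (mm false u4 = true ∧ mm true u4 = true ∧ Perm.sign u4 = 1)) := by decide +kernel

/-- six digits -/
private def dg6 (a b c d e f : ℕ) : ℕ :=
  Nat.add a (Nat.mul 8 (Nat.add b (Nat.mul 8 (Nat.add c (Nat.mul 8 (Nat.add d (Nat.mul 8 (Nat.add e (Nat.mul 8 f)))))))))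

/-- one digit -/
private def tv (N i : ℕ) : ℕ := Nat.mod (Nat.shiftRight N (Nat.mul 3 i)) 8

/-- the code of a permutation -/
private def cd (z : S6) : ℕ := dg6 (z 0).1 (z 1).1 (z 2).1 (z 3).1 (z 4).1 (z 5).1

private theorem tv_cd (z : S6) (i : Fin 6) : tv (cd z) i.1 = (z i).1 := by
  have h0 := (z 0).2; have h1 := (z 1).2; have h2 := (z 2).2; have h3 := (z 3).2; have h4 := (z 4).2; have h5 := (z 5).2
  have e : ∀ k, tv (cd z) k = ((z 0).1 + 8 * ((z 1).1 + 8 * ((z 2).1 + 8 * ((z 3).1 + 8 * ((z 4).1 + 8 * (z 5).1))))) / 2 ^ (3 * k) % 8 :=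
    fun k => congrArg (· % 8) (Nat.shiftRight_eq_div_pow _ _)
  rw [e]
  fin_cases i
  exacts [show _ / 1 % 8 = (z 0).1 by (clear * -; solve | lia | omega), show _ / 8 % 8 = (z 1).1 by omega, show _ / 64 % 8 = (z 2).1 by omega,
    show _ / 512 % 8 = (z 3).1 by omega, show _ / 4096 % 8 = (z 4).1 by omega, show _ / 32768 % 8 = (z 5).1 by (clear * -; solve | lia | omega)]

private theorem cd_inj {a b : S6} (h : cd a = cd b) : a = b :=
  Equiv.ext fun i => Fin.ext (by rw [← tv_cd, h, tv_cd])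

/-- the code of a product -/
private def ml (N M : ℕ) : ℕ := dg6 (tv N (tv M 0)) (tv N (tv M 1)) (tv N (tv M 2)) (tv N (tv M 3)) (tv N (tv M 4)) (tv N (tv M 5))

private theorem cd_mul (a b : S6) : cd (a * b) = ml (cd a) (cd b) := by
  have e : ∀ i : Fin 6, tv (cd a) (tv (cd b) i.1) = ((a * b) i).1 := fun i => by rw [tv_cd, tv_cd]; rfl
  exact (congr (congr (congr (congr (congr (congrArg dg6 (e 0)) (e 1)) (e 2)) (e 3)) (e 4)) (e 5)).symm

/-- all codes -/
private def all6 (q : ℕ → Bool) : Bool :=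
  [0, 1, 2, 3, 4, 5].all fun a => [0, 1, 2, 3, 4, 5].all fun b => Nat.beq a b || [0, 1, 2, 3, 4, 5].all fun c =>
    Nat.beq a c || (Nat.beq b c || [0, 1, 2, 3, 4, 5].all fun d => Nat.beq a d || (Nat.beq b d || (Nat.beq c d ||
      [0, 1, 2, 3, 4, 5].all fun e => Nat.beq a e || (Nat.beq b e || (Nat.beq c e || (Nat.beq d e ||
        [0, 1, 2, 3, 4, 5].all fun f => Nat.beq a f || (Nat.beq b f || (Nat.beq c f || (Nat.beq d f || (Nat.beq e f ||
          q (dg6 a b c d e f)))))))))))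

private theorem all6_spec {q : ℕ → Bool} (h : all6 q = true) (z : S6) : q (cd z) = true := by
  have m : ∀ i : Fin 6, i.1 ∈ [0, 1, 2, 3, 4, 5] := by decide
  have n : ∀ {i j : Fin 6} {x : Bool}, (Nat.beq (z i).1 (z j).1 || x) = true → i ≠ j → x = true := fun h hij =>
    (Bool.or_eq_true_iff.1 h).resolve_left fun e => hij (z.injective (Fin.ext (Nat.eq_of_beq_eq_true e)))
  have a := List.all_eq_true.1 (n (List.all_eq_true.1 (List.all_eq_true.1 h _ (m (z 0))) _ (m (z 1))) (by decide)) _ (m (z 2))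
  have b := List.all_eq_true.1 (n (n a (by decide)) (by decide)) _ (m (z 3))
  have c := List.all_eq_true.1 (n (n (n b (by decide)) (by decide)) (by decide)) _ (m (z 4))
  have d := List.all_eq_true.1 (n (n (n (n c (by decide)) (by decide)) (by decide)) (by decide)) _ (m (z 5))
  exact n (n (n (n (n d (by decide)) (by decide)) (by decide)) (by decide)) (by decide)

private def fd (N j : ℕ) : ℕ :=
  bif Nat.beq (tv N 0) j then 0 else bif Nat.beq (tv N 1) j then 1 else bif Nat.beq (tv N 2) j then 2 else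
    bif Nat.beq (tv N 3) j then 3 else bif Nat.beq (tv N 4) j then 4 else 5

private theorem fd_cd (g : S6) (j : Fin 6) : fd (cd g) j.1 = (g⁻¹ j).1 := by
  obtain ⟨i, rfl⟩ := g.surjective j
  have e : ∀ k : Fin 6, Nat.beq (tv (cd g) k.1) (g i).1 = decide (k = i) := fun k => by
    rw [tv_cd, Bool.eq_iff_iff, Nat.beq_eq, decide_eq_true_eq, Fin.val_inj, g.injective.eq_iff]
  have e0 : Nat.beq (tv (cd g) 0) (g i).1 = decide (0 = i) := e 0
  have e1 : Nat.beq (tv (cd g) 1) (g i).1 = decide (1 = i) := e 1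
  have e2 : Nat.beq (tv (cd g) 2) (g i).1 = decide (2 = i) := e 2
  have e3 : Nat.beq (tv (cd g) 3) (g i).1 = decide (3 = i) := e 3
  have e4 : Nat.beq (tv (cd g) 4) (g i).1 = decide (4 = i) := e 4
  delta fd
  rw [e0, e1, e2, e3, e4, show g⁻¹ (g i) = i from g.symm_apply_apply i]
  generalize i = i
  revert i
  decide

/-- the code of the inverse -/
private def iv (N : ℕ) : ℕ := dg6 (fd N 0) (fd N 1) (fd N 2) (fd N 3) (fd N 4) (fd N 5)

private theorem cd_inv (g : S6) : cd g⁻¹ = iv (cd g) :=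
  (congr (congr (congr (congr (congr (congrArg dg6 (fd_cd g 0)) (fd_cd g 1)) (fd_cd g 2)) (fd_cd g 3)) (fd_cd g 4))
    (fd_cd g 5)).symm

private def mc (T N : ℕ) : Bool := Nat.beq (ml N T) (ml T N)

private theorem mm_cd (b : Bool) (g : S6) : mm b g = mc (cd (t b)) (cd g) := by
  delta mm mc
  rw [← cd_mul, ← cd_mul, Bool.eq_iff_iff, decide_eq_true_eq, Nat.beq_eq]
  exact ⟨congrArg cd, cd_inj⟩

private def tc (N : ℕ) : Bool := mc 181889 N != mc 152769 N

private noncomputable def _root_.Cfsg.Agent.LsF.f2503b6_0 : {f // @Cfsg.Agent.H223.PMinSix.all6 = f} := ⟨_, by first | (delta Cfsg.Agent.H223.PMinSix.all6; rewrite [Cfsg.Agent.LsF.or_eq, Cfsg.Agent.LsF.all_eq]; exact rfl) | exact rfl⟩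
private noncomputable def _root_.Cfsg.Agent.LsF.f2503b6_1 : {f // @Cfsg.Agent.H223.PMinSix.tc = f} := ⟨_, by first | (delta Cfsg.Agent.H223.PMinSix.tc; rewrite [Cfsg.Agent.LsF.bbne_pat]; exact rfl) | exact rfl⟩
private noncomputable def _root_.Cfsg.Agent.LsF.f2503b6_2 : {f // @Cfsg.Agent.H223.PMinSix.fd = f} := ⟨_, by first | (delta Cfsg.Agent.H223.PMinSix.fd; rewrite [Cfsg.Agent.LsF.cond_eq]; exact rfl) | exact rfl⟩
private noncomputable def _root_.Cfsg.Agent.LsF.f2503b6_3 : {f // @Cfsg.Agent.H223.PMinSix.iv = f} := ⟨_, by first | (delta Cfsg.Agent.H223.PMinSix.iv; rewrite [Cfsg.Agent.LsF.f2503b6_2.2]; exact rfl) | exact rfl⟩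
theorem check : ∀ g : S6, Perm.sign g = 1 → mm false g = true ∨ mm true g = true ∨ TT (g * u1 * g⁻¹ * u2 * g) = true ∨
    TT (g * u1 * g⁻¹ * u3 * g) = true ∨ TT (g * u1 * g⁻¹ * u4 * g) = true ∨ TT (g⁻¹ * u4 * g) = true := by
  intro g _
  obtain ⟨e0, e1, c1, c2, c3, c4⟩ : cd (t false) = 181889 ∧ cd (t true) = 152769 ∧ cd u1 = 152776 ∧ cd u2 = 109320 ∧
      cd u3 = 80200 ∧ cd u4 = 153217 := by decide +kernel
  have hT : ∀ x, TT x = tc (cd x) := fun x => by
    delta TT tc
    rw [mm_cd, mm_cd, e0, e1]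
  have h := all6_spec (q := fun N => mc 181889 N || (mc 152769 N ||
    (tc (ml (ml (ml (ml N 152776) (iv N)) 109320) N) || (tc (ml (ml (ml (ml N 152776) (iv N)) 80200) N) ||
      (tc (ml (ml (ml (ml N 152776) (iv N)) 153217) N) || tc (ml (ml (iv N) 153217) N)))))) (by ((try (rewrite [Cfsg.Agent.LsF.f2503b6_0.2, Cfsg.Agent.LsF.f2503b6_1.2, Cfsg.Agent.LsF.f2503b6_3.2, Cfsg.Agent.LsF.or_eq])); decide +kernel)) g
  simp only [hT, mm_cd, cd_mul, cd_inv, e0, e1, c1, c2, c3, c4]
  simpa only [Bool.or_eq_true] using h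

/-- the two minimal parabolic subgroups -/
def P (b : Bool) : Subgroup (alternatingGroup (Fin 6)) :=
  (Subgroup.centralizer {t b}).subgroupOf (alternatingGroup (Fin 6))

theorem mem_P {b : Bool} {g : alternatingGroup (Fin 6)} : g ∈ P b ↔ mm b g = true := by
  unfold P mm
  rw [Subgroup.mem_subgroupOf, Subgroup.mem_centralizer_singleton_iff, decide_eq_true_iff]

def U : Subgroup (alternatingGroup (Fin 6)) := P false ⊓ P true

theorem cards : (Fintype.card {g : S6 // mm false g = true ∧ Perm.sign g = 1} = 24 ∧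
    Fintype.card {g : S6 // mm true g = true ∧ Perm.sign g = 1} = 24) ∧
    Fintype.card {g : S6 // mm false g = true ∧ mm true g = true ∧ Perm.sign g = 1} = 8 := by
  (delta Cfsg.Agent.H223.PMinSix.mm; set_option synthInstance.maxSize 9000 in open scoped Cfsg.Agent.Lib.FastPerm in (simp only [Cfsg.Agent.Lib.FastPerm.sw_dec, Cfsg.Agent.Lib.FastPerm.sw_ite, Cfsg.Agent.Lib.FastPerm.sw_beq, Cfsg.Agent.Lib.FastPerm.sw_bne]; decide +kernel))

def equivOf (Q : Subgroup (alternatingGroup (Fin 6))) (f : S6 → Prop) (h : ∀ g : alternatingGroup (Fin 6), g ∈ Q ↔ f g) :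
    Q ≃ {g : S6 // f g ∧ Perm.sign g = 1} where
  toFun x := ⟨x.1.1, (h x.1).1 x.2, Perm.mem_alternatingGroup.1 x.1.2⟩
  invFun y := ⟨⟨y.1, Perm.mem_alternatingGroup.2 y.2.2⟩, (h _).2 y.2.1⟩
  left_inv _ := rfl
  right_inv _ := rfl

theorem card_P (b : Bool) : Nat.card (P b) = 24 := by
  rw [Nat.card_congr (equivOf (P b) (fun g => mm b g = true) fun g => mem_P), Nat.card_eq_fintype_card]
  cases b
  · exact cards.1.1
  · exact cards.1.2

theorem U_le (b : Bool) : U ≤ P b := by
  cases b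
  · exact inf_le_left
  · exact inf_le_right

theorem mem_U {g : alternatingGroup (Fin 6)} : g ∈ U ↔ mm false g = true ∧ mm true g = true := by
  unfold U
  rw [Subgroup.mem_inf, mem_P, mem_P]

theorem card_U : Nat.card U = 8 := by
  rw [Nat.card_congr (equivOf U (fun g => mm false g = true ∧ mm true g = true) fun g => mem_U),
    Nat.card_eq_fintype_card, ← cards.2]
  exact Fintype.card_congr (Equiv.subtypeEquivRight fun g => and_assoc)

theorem card_A6 : Nat.card (alternatingGroup (Fin 6)) = 360 := by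
  rw [nat_card_alternatingGroup, Nat.card_eq_fintype_card, Fintype.card_fin]
  decide

theorem P_le_of_mem {Q : Subgroup (alternatingGroup (Fin 6))} (hQ : U ≤ Q) {b : Bool} {g : alternatingGroup (Fin 6)}
    (hg : g ∈ Q) (hgP : g ∈ P b) (hgU : g ∉ U) : P b ≤ Q := by
  have h1 : U ≤ Q ⊓ P b := le_inf hQ (U_le b)
  have h2 : Nat.card U ∣ Nat.card ↥(Q ⊓ P b) := Subgroup.card_dvd_of_le h1
  have h3 : Nat.card ↥(Q ⊓ P b) ∣ Nat.card (P b) := Subgroup.card_dvd_of_le inf_le_right
  rw [card_U] at h2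
  rw [card_P] at h3
  have h4 : Nat.card ↥(Q ⊓ P b) ≠ 8 := by
    intro h
    apply hgU
    have h5 : U = Q ⊓ P b := Subgroup.eq_of_le_of_card_ge h1 (by rw [h, card_U])
    rw [h5]
    exact ⟨hg, hgP⟩
  have h5 : Nat.card ↥(Q ⊓ P b) = 24 := by
    generalize Nat.card ↥(Q ⊓ P b) = n at *
    have h6 : n ≤ 24 := Nat.le_of_dvd (by norm_num) h3
    interval_cases n <;> omega
  have h6 : Q ⊓ P b = P b := Subgroup.eq_of_le_of_card_ge inf_le_right (by rw [h5, card_P])
  rw [← h6]
  exact inf_le_left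

theorem eq_of_P_le {Q : Subgroup (alternatingGroup (Fin 6))} {b : Bool} (hQ : P b ≤ Q) : Q = P b ∨ Q = ⊤ := by
  by_cases hne : Q = ⊤
  · exact Or.inr hne
  left
  have hs : IsSimpleGroup (alternatingGroup (Fin 6)) := alternatingGroup.isSimpleGroup (by
    rw [Nat.card_eq_fintype_card, Fintype.card_fin]; omega)
  have h1 := Cfsg.Agent.Involutions.IndexFive.card_dvd_factorial_index Q hne
  rw [card_A6] at h1
  have h2 : Nat.card (P b) ∣ Nat.card Q := Subgroup.card_dvd_of_le hQ
  have h3 := Subgroup.card_mul_index Q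
  rw [card_A6] at h3
  rw [card_P] at h2
  obtain ⟨k, hk⟩ := h2
  rw [hk] at h3
  have h4 : k * Q.index = 15 := by
    have : 24 * (k * Q.index) = 24 * 15 := by rw [← mul_assoc]; exact h3
    exact Nat.eq_of_mul_eq_mul_left (by norm_num) this
  have h5 : k = 1 := by
    have h6 : Q.index ∣ 15 := Dvd.intro_left _ h4
    have h7 : Q.index ≤ 15 := Nat.le_of_dvd (by norm_num) h6
    have h8 : Q.index ≠ 1 := fun h => hne (Subgroup.index_eq_one.1 h)
    generalize Q.index = n at *
    interval_cases n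
    all_goals first
      | (clear * - h3 h8; omega)
      | (exfalso; revert h1; decide)
  subst h5
  refine (Subgroup.eq_of_le_of_card_ge hQ ?_).symm
  rw [hk, card_P]

theorem exists_P_le {Q : Subgroup (alternatingGroup (Fin 6))} (hQ : U ≤ Q) (hne : Q ≠ U) : ∃ b, P b ≤ Q := by
  obtain ⟨g, hgQ, hgU⟩ : ∃ g ∈ Q, g ∉ U := by
    by_contra h
    push Not at h
    exact hne (le_antisymm h hQ)
  have key : ∀ h : alternatingGroup (Fin 6), h ∈ Q → TT h = true → ∃ b, P b ≤ Q := by
    intro h hh hT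
    by_cases h1 : mm false h = true
    · refine ⟨false, P_le_of_mem hQ hh (mem_P.2 h1) fun h2 => ?_⟩
      have h3 := (mem_U.1 h2).2
      unfold TT at hT
      rw [h1, h3] at hT
      exact absurd hT (by decide)
    · have h2 : mm true h = true := by
        unfold TT at hT
        rw [Bool.eq_false_iff.2 h1] at hT
        revert hT
        cases mm true h <;> decide
      refine ⟨true, P_le_of_mem hQ hh (mem_P.2 h2) fun h3 => h1 (mem_U.1 h3).1⟩
  have hu : ∀ u : S6, mm false u = true ∧ mm true u = true ∧ Perm.sign u = 1 →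
      ∃ v : alternatingGroup (Fin 6), (v : S6) = u ∧ v ∈ Q := fun u hu =>
    ⟨⟨u, Perm.mem_alternatingGroup.2 hu.2.2⟩, rfl, hQ (mem_U.2 ⟨hu.1, hu.2.1⟩)⟩
  obtain ⟨v1, e1, h1⟩ := hu u1 mem_u.1.1
  obtain ⟨v2, e2, h2⟩ := hu u2 mem_u.1.2
  obtain ⟨v3, e3, h3⟩ := hu u3 mem_u.2.1
  obtain ⟨v4, e4, h4⟩ := hu u4 mem_u.2.2
  rcases check g (Perm.mem_alternatingGroup.1 g.2) with h | h | h | h | h | h
  · exact ⟨false, P_le_of_mem hQ hgQ (mem_P.2 h) hgU⟩
  · exact ⟨true, P_le_of_mem hQ hgQ (mem_P.2 h) hgU⟩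
  · rw [← e1, ← e2] at h
    exact key (g * v1 * g⁻¹ * v2 * g) (mul_mem (mul_mem (mul_mem (mul_mem hgQ h1) (inv_mem hgQ)) h2) hgQ) h
  · rw [← e1, ← e3] at h
    exact key (g * v1 * g⁻¹ * v3 * g) (mul_mem (mul_mem (mul_mem (mul_mem hgQ h1) (inv_mem hgQ)) h3) hgQ) h
  · rw [← e1, ← e4] at h
    exact key (g * v1 * g⁻¹ * v4 * g) (mul_mem (mul_mem (mul_mem (mul_mem hgQ h1) (inv_mem hgQ)) h4) hgQ) h
  · rw [← e4] at h
    exact key (g⁻¹ * v4 * g) (mul_mem (mul_mem (inv_mem hgQ) h4) hgQ) h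

/-- elements of order three -/
def g1 : S6 := swap (2 : Fin 6) 3 * swap (3 : Fin 6) 4
def g2 : S6 := swap (0 : Fin 6) 2 * swap (2 : Fin 6) 4 * (swap (1 : Fin 6) 3 * swap (3 : Fin 6) 5)

theorem facts : (mm false g1 = true ∧ mm true g1 = false ∧ Perm.sign g1 = 1 ∧ mm true (g1 * u4 * g1⁻¹) = false) ∧
    (mm true g2 = true ∧ mm false g2 = false ∧ Perm.sign g2 = 1 ∧ mm false (g2 * u2 * g2⁻¹) = false) := by
  decide +kernel

theorem normalizer_U : normalizer (U : Set (alternatingGroup (Fin 6))) = U := by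
  by_contra hne
  obtain ⟨b, hb⟩ := exists_P_le le_normalizer hne
  cases b
  · obtain ⟨h1, h2, h3, h4⟩ := facts.1
    have h5 : (⟨g1, Perm.mem_alternatingGroup.2 h3⟩ : alternatingGroup (Fin 6)) ∈ P false := mem_P.2 h1
    have h6 : (⟨u4, Perm.mem_alternatingGroup.2 mem_u.2.2.2.2⟩ : alternatingGroup (Fin 6)) ∈ U :=
      mem_U.2 ⟨mem_u.2.2.1, mem_u.2.2.2.1⟩
    have h7 := (mem_U.1 ((Subgroup.mem_normalizer_iff.1 (hb h5) _).1 h6)).2
    have h8 : mm true (g1 * u4 * g1⁻¹) = true := h7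
    rw [h4] at h8
    exact absurd h8 (by decide)
  · obtain ⟨h1, h2, h3, h4⟩ := facts.2
    have h5 : (⟨g2, Perm.mem_alternatingGroup.2 h3⟩ : alternatingGroup (Fin 6)) ∈ P true := mem_P.2 h1
    have h6 : (⟨u2, Perm.mem_alternatingGroup.2 mem_u.1.2.2.2⟩ : alternatingGroup (Fin 6)) ∈ U :=
      mem_U.2 ⟨mem_u.1.2.1, mem_u.1.2.2.1⟩
    have h7 := (mem_U.1 ((Subgroup.mem_normalizer_iff.1 (hb h5) _).1 h6)).1
    have h8 : mm false (g2 * u2 * g2⁻¹) = true := h7
    rw [h4] at h8
    exact absurd h8 (by decide)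

theorem not_le (b : Bool) : ¬ P b ≤ P (!b) := by
  intro h
  cases b
  · obtain ⟨h1, h2, h3, h4⟩ := facts.1
    have h5 : (⟨g1, Perm.mem_alternatingGroup.2 h3⟩ : alternatingGroup (Fin 6)) ∈ P false := mem_P.2 h1
    have h6 := mem_P.1 (h h5)
    change mm true g1 = true at h6
    rw [h2] at h6
    exact absurd h6 (by decide)
  · obtain ⟨h1, h2, h3, h4⟩ := facts.2
    have h5 : (⟨g2, Perm.mem_alternatingGroup.2 h3⟩ : alternatingGroup (Fin 6)) ∈ P true := mem_P.2 h1
    have h6 := mem_P.1 (h h5)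
    change mm false g2 = true at h6
    rw [h2] at h6
    exact absurd h6 (by decide)

theorem exists_psys : Nonempty (PSys 2 (alternatingGroup (Fin 6)) Bool) := by
  refine ⟨psysOf U (IsPGroup.of_card (n := 3) (by rw [card_U]; norm_num)) ?_ P ?_ ?_⟩
  · have h1 := Subgroup.card_mul_index U
    rw [card_U, card_A6] at h1
    omega
  · intro Q hQ
    rw [normalizer_U] at hQ
    by_cases hne : Q = U
    · exact (hne.le.trans normalizer_U.ge).trans le_sup_left
    · obtain ⟨b, hb⟩ := exists_P_le hQ hne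
      rcases eq_of_P_le hb with h | h
      · exact h.le.trans (le_par U P hb)
      · have h1 : ∀ b, P b ≤ par U P {i | P i ≤ Q} := fun b => le_par U P (by
          show P b ≤ Q
          rw [h]; exact le_top)
        rcases eq_of_P_le (h1 false) with h2 | h2
        · exfalso
          apply not_le true
          have := h1 true
          rw [h2] at this
          exact this
        · rw [h2]
          exact le_top
  · intro i h
    apply not_le i
    refine h.trans (sup_le ?_ (iSup₂_le fun j hj => ?_))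
    · rw [normalizer_U]
      exact U_le _
    · have : j = !i := by
        revert hj
        cases i <;> cases j <;> simp
      rw [this]

theorem pgood_A6 {G : Type v} [Group G] (e : G ≃* alternatingGroup (Fin 6)) : PGood.{u} 2 G := by
  have hp2 : Fact (Nat.Prime 2) := ⟨Nat.prime_two⟩
  obtain ⟨Z⟩ := exists_psys
  have h : PGood.{u} 2 (alternatingGroup (Fin 6)) :=
    pgood_of_rankTwo Z (i := false) (j := true) (by decide) (by intro k; cases k <;> simp)
      (fun _ => Or.inr (Or.inr ⟨MulEquiv.refl _⟩))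
  exact h.congr e.symm

end Cfsg.Agent.H223.PMinSix
end

-- part: H223/PMinBN
section
set_option autoImplicit false
set_option linter.style.haveILetI false
set_option linter.unusedSectionVars false

/-!
# Parabolic systems from split (B, N)-pairs
-/

namespace Cfsg.Agent.H223.PMinBN

open Subgroup Cfsg Cfsg.Agent.H223.PMinSys Cfsg.Agent.H223.PMinGood
open Cfsg.Agent.Schreier.BNSch Cfsg.Agent.FixBN

universe u v w

/-- a `p`-subgroup containing the `p`-elements of its normalizer is a Sylow subgroup -/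
theorem not_dvd_index {p : ℕ} [Fact p.Prime] {Y : Type v} [Group Y] [Finite Y] {U : Subgroup Y} (hU : IsPGroup p U)
    (h : ∀ g ∈ normalizer (U : Set Y), (∃ n, g ^ p ^ n = 1) → g ∈ U) : ¬ p ∣ U.index := by
  obtain ⟨S, hS⟩ := hU.exists_le_sylow
  have h1 : U = (S : Subgroup Y) := by
    by_contra hne
    have hlt : U < (S : Subgroup Y) := lt_of_le_of_ne hS hne
    haveI : Group.IsNilpotent S := S.isPGroup'.isNilpotent
    have h2 : U.subgroupOf S < ⊤ := by
      rw [lt_top_iff_ne_top, Ne, Subgroup.subgroupOf_eq_top]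
      exact not_le_of_gt hlt
    obtain ⟨x, hx, hxU⟩ := SetLike.exists_of_lt (Group.normalizerCondition_of_isNilpotent (G := S) _ h2)
    apply hxU
    rw [Subgroup.mem_subgroupOf]
    apply h
    · rw [Subgroup.mem_normalizer_iff] at hx ⊢
      intro u
      constructor
      · intro hu
        have := (hx ⟨u, hS hu⟩).1 hu
        exact this
      · intro hu
        have h3 : u ∈ (S : Subgroup Y) := by
          have h4 := mul_mem (mul_mem (inv_mem x.2) (hS hu)) x.2
          have h5 : (x : Y)⁻¹ * (x * u * (x : Y)⁻¹) * x = u := by group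
          rwa [h5] at h4
        exact (hx ⟨u, h3⟩).2 hu
    · obtain ⟨n, hn⟩ := S.isPGroup' x
      exact ⟨n, congrArg Subtype.val hn⟩
  rw [h1]
  exact S.not_dvd_index

variable {K : Type v} [Group K] (P : Cfsg.BNPair K) {p : ℕ} {U : Subgroup K}

/-- the parabolic system of a split (B, N)-pair -/
noncomputable def psys [Finite K] [Fact p.Prime] (hB : normalizer (U : Set K) = P.B) (hU : IsPGroup p U)
    (hp : ∀ g ∈ P.B, (∃ n, g ^ p ^ n = 1) → g ∈ U) : PSys p K P.S where
  U := U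
  isP := hU
  idx := not_dvd_index hU fun g hg => hp g (hB ▸ hg)
  e := (S0316.result P).choose.trans
    { toFun := fun Q => ⟨Q.1, hB.le.trans Q.2⟩
      invFun := fun Q => ⟨Q.1, hB.ge.trans Q.2⟩
      left_inv := fun _ => rfl
      right_inv := fun _ => rfl
      map_rel_iff' := Iff.rfl }

theorem psys_e [Finite K] [Fact p.Prime] (hB : normalizer (U : Set K) = P.B) (hU : IsPGroup p U)
    (hp : ∀ g ∈ P.B, (∃ n, g ^ p ^ n = 1) → g ∈ U) (J : Set P.S) :
    ((psys P hB hU hp).e J : Subgroup K) = P.parabolic (Subtype.val '' J) :=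
  (S0316.result P).choose_spec J

theorem pgood_of_hasSplit [Finite K] [Fact p.Prime] (h : HasSplit p K) (h1 : IsLieRankOneChar p K) :
    PGood.{u} p K := by
  obtain ⟨P, U, hS, h⟩ := h
  haveI : Nonempty P.S := hS.to_subtype
  exact pgood_of_rankOne (psys P h.normalizer_eq h.isP fun g hg ⟨n, hn⟩ => h.mem_of_pow hg hn) h1

/-- `V = ⋂ U^g` for `g` in the minimal parabolic subgroup -/
theorem mem_V_iff {V : Subgroup K} {s : K} (hs : s ∈ P.S) (hUB : U ≤ P.B) (N : Node P U s V) (u : K) :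
    u ∈ V ↔ ∀ g ∈ P.parabolic {s}, g * u * g⁻¹ ∈ U := by
  have hss : s * s ∈ P.B := P.sq_mem s hs
  constructor
  · intro hu g hg
    have hle : P.parabolic {s} ≤ normalizer (V : Set K) := by
      have hB : P.B ≤ normalizer (V : Set K) := by
        intro b hb
        rw [Subgroup.mem_normalizer_iff]
        intro v
        refine ⟨fun hv => N.conj_B b hb v hv, fun hv => ?_⟩
        have := N.conj_B b⁻¹ (inv_mem hb) _ hv
        have h2 : b⁻¹ * (b * v * b⁻¹) * b⁻¹⁻¹ = v := by group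
        rwa [h2] at this
      refine sup_le hB ?_
      rw [Subgroup.closure_le, Set.singleton_subset_iff]
      show s ∈ normalizer (V : Set K)
      rw [← inv_mem_iff, Subgroup.mem_normalizer_iff]
      intro v
      constructor
      · intro hv
        have := N.conj_s v hv
        rwa [inv_inv]
      · intro hv
        rw [inv_inv] at hv
        have h1 := N.conj_s _ hv
        have h2 := N.conj_B _ hss _ h1
        have h3 : s * s * (s⁻¹ * (s⁻¹ * v * s) * s) * (s * s)⁻¹ = v := by group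
        rwa [h3] at h2
    exact N.le ((Subgroup.mem_normalizer_iff.1 (hle hg) u).1 hu)
  · intro h
    have h1 : u ∈ U := by
      have := h 1 (one_mem _)
      simpa using this
    refine N.stab u h1 (hUB ?_)
    have h2 : s⁻¹ ∈ P.parabolic {s} :=
      inv_mem ((le_sup_right : Subgroup.closure {s} ≤ P.parabolic {s}) (Subgroup.subset_closure rfl))
    have := h s⁻¹ h2
    rwa [inv_inv] at this

/-- two nodes with non-conjugate groups `V` -/
theorem pgood_of_nodes [Finite K] [Fact p.Prime] (hB : normalizer (U : Set K) = P.B) (hU : IsPGroup p U)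
    (hp : ∀ g ∈ P.B, (∃ n, g ^ p ^ n = 1) → g ∈ U) {s t : K} (hs : s ∈ P.S) (ht : t ∈ P.S) {V V' : Subgroup K}
    (N : Node P U s V) (N' : Node P U t V')
    (h : ∀ α : MulAut K, U.map α.toMonoidHom = U → V.map α.toMonoidHom ≠ V') : PGood.{u} p K := by
  haveI : Nonempty P.S := ⟨⟨s, hs⟩⟩
  have hUB : U ≤ P.B := hB ▸ le_normalizer
  refine pgood_of_sep (psys P hB hU hp) (i := ⟨s, hs⟩) (j := ⟨t, ht⟩) fun α hα hP => ?_
  rw [psys_e, psys_e, Set.image_singleton, Set.image_singleton] at hP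
  have hα' : U.map α.toMonoidHom = U := hα
  refine h α hα' ?_
  ext x
  rw [mem_V_iff P ht hUB N']
  constructor
  · rintro ⟨v, hv, rfl⟩ g hg
    rw [← hP] at hg
    obtain ⟨k, hk, rfl⟩ := hg
    have h1 := (mem_V_iff P hs hUB N v).1 hv k hk
    have h2 : α (k * v * k⁻¹) ∈ U := by
      rw [← hα']
      exact ⟨_, h1, rfl⟩
    rw [map_mul, map_mul, map_inv] at h2
    exact h2
  · intro hx
    refine ⟨α⁻¹ x, ?_, MulAut.apply_inv_self _ α x⟩
    show α⁻¹ x ∈ V
    rw [mem_V_iff P hs hUB N]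
    intro k hk
    have h1 : α k ∈ P.parabolic {t} := by
      rw [← hP]
      exact ⟨k, hk, rfl⟩
    have h2 := hx _ h1
    rw [← hα'] at h2
    obtain ⟨y, hy, e⟩ := h2
    have h3 : k * α⁻¹ x * k⁻¹ = y := by
      apply α.injective
      rw [map_mul, map_mul, map_inv, MulAut.apply_inv_self]
      exact e.symm
    rw [h3]
    exact hy

end Cfsg.Agent.H223.PMinBN
end

-- part: H223/PMinTw
section
set_option autoImplicit false
set_option linter.style.haveILetI false
set_option linter.unusedSectionVars false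

/-!
# p-minimal groups: Suzuki groups, Ree groups
-/

namespace Cfsg.Agent.H223.PMinTw

open Subgroup Cfsg Cfsg.Agent.H223.PMinSys Cfsg.Agent.H223.PMinGood Cfsg.Agent.H223.PMinBN
open Cfsg.Agent.Schreier.BNSch Cfsg.Agent.FixBN

universe u v w

theorem pgood_Sz {G : Type v} [Group G] (h : Lie.IsoSuzuki G) : PGood.{u} 2 G := by
  have : Fact (Nat.Prime 2) := ⟨Nat.prime_two⟩
  obtain ⟨K, i1, i2, m, hm, hK, ⟨e⟩⟩ := h
  have H := LieRecognition.SzMatrix.good hK
  have hs := S1162.result hm hK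
  have hsp : HasSplit 2 ↥(Cfsg.Lie.Sz K (2 ^ (m + 1))) := ⟨H566.szBN H, H.unip, ⟨H.w, rfl⟩, H566.sz_split hK H hs⟩
  exact (pgood_of_hasSplit hsp (Or.inr (Or.inr (Or.inl ⟨rfl, K, i1, i2, m, hm, hK, ⟨MulEquiv.refl _⟩⟩)))).congr e.symm

theorem pgood_Ree {G : Type v} [Group G] (h : Lie.IsoRee G) : PGood.{u} 3 G := by
  have : Fact (Nat.Prime 3) := ⟨Nat.prime_three⟩
  obtain ⟨K, i1, i2, m, hm, hK, ⟨e⟩⟩ := h
  exact (pgood_of_hasSplit (ReeSplit.hasSplit_Ree hK)
    (Or.inr (Or.inr (Or.inr ⟨rfl, Or.inl ⟨K, i1, i2, m, hm, hK, ⟨MulEquiv.refl _⟩⟩⟩)))).congr e.symm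

section F4

open Cfsg.Lie
open Cfsg.Agent.ChevalleyStructure.TwF4.Rel
open Cfsg.Agent.ChevalleyStructure.TwF4.Groups Cfsg.Agent.ChevalleyStructure.TwF4.RankOne
open Cfsg.Agent.ChevalleyStructure.TwF4.Twisted Cfsg.Agent.ChevalleyStructure.TwF4.TwistedFix
open Cfsg.Agent.ChevalleyStructure.TwF4.BN
open Cfsg.Agent.ChevalleyStructure.TwF4.Torus (T chi T_conj_X T_inr)
open Cfsg.Agent.ChevalleyStructure.TwF4.TwGen (tc chi_tc_24 chi_tc_25 chi_tc_33 chi_tc_27 chi28 chi30 pow_all)
open Cfsg.Agent.ChevalleyStructure.TwF4.TorusFix (mem_iff pow_unit T_rt rt)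
open Cfsg.Agent.ChevalleyStructure.TwF4.Fix (Fix)
open Cfsg.Agent.Schreier.Basic Cfsg.Agent.Schreier.Tools Cfsg.Agent.Schreier.BNSch Cfsg.Agent.Schreier.BNUse
open Cfsg.Agent.Schreier.TwFFour

variable {K : Type v} [Field K] [Fintype K] {m : ℕ}

/-- the split (B, N)-pair of `²F₄(q)`, `q ≥ 2` -/
theorem exists_split (hK : Fintype.card K = 2 ^ (2 * m + 1)) [CharP K 2] {φ : K →+* K} (hφ : Rln φ (2 ^ m)) :
    ∃ P : Cfsg.BNPair ↥(twistedF4 K (2 ^ m)), P.B = B0 K (2 ^ m) ∧ P.S = Set.range (twistedData hφ).nG ∧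
      Split P 2 (U0 K (2 ^ m)) := by
  have : Fact (Nat.Prime 2) := ⟨Nat.prime_two⟩
  obtain ⟨P, hPB, hPN, hPS⟩ := exists_bnPair hφ
  have hB : P.B = B0 K (2 ^ m) := hPB
  have hdec := dec hK hφ
  refine ⟨P, hB, hPS, ?_, ?_, isPGroup_U0 hK, ?_, ⟨2 ^ (2 * m + 1) - 1, ?_, ?_⟩, ?_, ?_⟩
  · rw [hB]; exact U0_le_B0
  · intro b hb u hu
    rw [hB] at hb
    exact conj_U0 hb hu
  · intro b hb
    rw [hB] at hb
    obtain ⟨s, t, u, hu, hbu⟩ := hdec.1 b hb
    refine ⟨u, hu, ?_⟩
    rw [hPN, Subgroup.mem_subgroupOf, Subgroup.coe_mul, Subgroup.coe_inv, hbu, inv_mul_cancel_left]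
    exact Cfsg.Agent.ChevalleyStructure.TwF4.NStruct.T_mem_N _
  · have h1 : 2 ∣ 2 ^ (2 * m + 1) := dvd_pow_self 2 (by omega)
    have h2 : 0 < 2 ^ (2 * m + 1) := by positivity
    omega
  · intro h hh hN
    rw [hPB, Subgroup.mem_subgroupOf] at hh
    rw [hPN, Subgroup.mem_subgroupOf] at hN
    have h1 := borel_inf_N ⟨hh, hN⟩
    obtain ⟨s, t, hst⟩ := (mem_iff hK (h : GL chevF4.Idx K)).1 ⟨h1, h.2⟩
    apply Subtype.ext
    rw [Subgroup.coe_pow, hst, ← map_pow]
    have h2 : tc (2 ^ m) s t ^ (2 ^ (2 * m + 1) - 1) = 1 := by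
      have h3 : ∀ x : Kˣ, x ^ (2 ^ (2 * m + 1) - 1) = 1 := by
        intro x
        have h4 := pow_card_eq_one' (x := x)
        rwa [Nat.card_units, Nat.card_eq_fintype_card, hK] at h4
      funext l
      rw [Pi.pow_apply, h3]; rfl
    rw [h2, map_one]; rfl
  · intro s hs
    rw [hPS] at hs
    obtain ⟨i, rfl⟩ := hs
    have hi : i = 0 ∨ i = 1 := by
      revert i; decide
    rcases hi with rfl | rfl
    · exact ⟨V1 K (2 ^ m), node1 hφ hB⟩
    · exact ⟨V8 K (2 ^ m), node2 hφ hB⟩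
  · rw [hPB, ← Subgroup.inf_subgroupOf_right]
    exact Cfsg.Agent.S1113.result hK

theorem sq_mem_V1 [CharP K 2] {φ : K →+* K} {e : ℕ} (hφ : Rln φ e) {u : ↥(twistedF4 K e)} (hu : u ∈ U0 K e) :
    u * u ∈ V1 K e := by
  obtain ⟨v, hv, t, hvt'⟩ := decomp_a hφ hu u.2
  have hvt : (u : GL chevF4.Idx K) = v * xa e t := hvt'
  show (u : GL chevF4.Idx K) * u ∈ GA K (geB 2)
  have h1 : xa e t * xa e t = 1 := by
    rw [← xa_add hφ, CharTwo.add_self_eq_zero]
    have := xa_add hφ (0 : K) 0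
    rw [add_zero] at this
    exact (mul_eq_left.1 this.symm)
  have h2 : (u : GL chevF4.Idx K) * u = v * (xa e t * v * (xa e t)⁻¹) * (xa e t * xa e t) := by
    rw [hvt]; group
  rw [h2, h1, mul_one]
  exact mul_mem hv (norm_ge2 (xa_U t) hv)

theorem pgood_2F4 (hK : Fintype.card K = 2 ^ (2 * m + 1)) : PGood.{u} 2 ↥(twistedF4 K (2 ^ m)) := by
  have : CharP K 2 := charP_two hK
  have : Fact (Nat.Prime 2) := ⟨Nat.prime_two⟩
  have : Finite ↥(twistedF4 K (2 ^ m)) := inferInstance
  obtain ⟨φ, hφ⟩ := exists_rln hK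
  obtain ⟨P, hB, hPS, S⟩ := exists_split hK hφ
  refine pgood_of_nodes P S.normalizer_eq S.isP (fun g hg ⟨n, hn⟩ => S.mem_of_pow hg hn)
    (s := (twistedData hφ).nG 0) (t := (twistedData hφ).nG 1) (by rw [hPS]; exact ⟨0, rfl⟩)
    (by rw [hPS]; exact ⟨1, rfl⟩) (node1 hφ hB) (node2 hφ hB) ?_
  intro α hα hV
  have hx : (⟨xb (2 ^ m) 1 0, xb_mem 1 0⟩ : ↥(twistedF4 K (2 ^ m))) ∈ U0 K (2 ^ m) := xb_U 1 0
  have h1 : (⟨xb (2 ^ m) 1 0, xb_mem 1 0⟩ : ↥(twistedF4 K (2 ^ m))) * ⟨xb (2 ^ m) 1 0, xb_mem 1 0⟩ ∈ V8 K (2 ^ m) := by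
    rw [← hα] at hx
    obtain ⟨u, hu, hux⟩ := hx
    rw [← hV, ← hux]
    exact ⟨u * u, sq_mem_V1 hφ hu, map_mul _ _ _⟩
  have h2 : xb (2 ^ m) (1 : K) 0 * xb (2 ^ m) 1 0 ∈ GA K (leB 7) := h1
  rw [xb_sq hφ, one_pow] at h2
  exact one_ne_zero (xb_le7 hφ.pos.ne' h2)

end F4

end Cfsg.Agent.H223.PMinTw
end

-- part: H223/PMinChev
section
set_option autoImplicit false
set_option linter.style.haveILetI false
set_option linter.unusedSectionVars false

/-!
# p-minimal groups with a normal simple subgroup of Lie type in characteristic p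
-/

namespace Cfsg.Agent.H223.PMinChev

open Subgroup Cfsg Cfsg.Agent.H223.PMinGood

universe u v

/-- every simple group of Lie type in characteristic `p` is good -/
theorem pgood_chev {p : ℕ} (hp : p.Prime) {G : Type v} [Group G] (h : IsChevSimple p G) : PGood.{u} p G := by
  rcases h with h | ⟨rfl, h⟩ | ⟨rfl, F, _, _, hF, ⟨e⟩⟩
  · refine PMinFam.pgood_lie hp h ?_ ?_ ?_
    · rintro rfl h
      exact PMinTw.pgood_Sz h
    · rintro rfl h
      obtain ⟨K, _, _, m, hm, hK, ⟨e⟩⟩ := h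
      exact (PMinTw.pgood_2F4 hK).congr e.symm
    · rintro rfl h
      exact PMinTw.pgood_Ree h
  · rcases h with ⟨⟨e⟩⟩ | ⟨F, _, _, hF, ⟨e⟩⟩ | h
    · exact PMinSix.pgood_A6 e
    · exact PMinU33.pgood_U33 hF e
    · exact PMinTits.pgood_Tits h
  · exact PMinEight.pgood_L28 hF e

end Cfsg.Agent.H223.PMinChev
end

private theorem dce_eb44bd2b74f0 : _root_.True := by
  try have : _root_.True := by simp only [_root_.Cfsg.Agent.H223.PMinGood.val.eq_1]
  try have : _root_.True := by simp only [_root_.Cfsg.Agent.H223.PMinSys.act.congr_simp]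
  exact _root_.True.intro
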